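import Cfsg.Agent.Lib.Spor.Cos.Y432.Image

/-!
The longest element of a diagram of type E8 is trivial.
-/

set_option autoImplicit false
set_option maxRecDepth 100000
set_option maxHeartbeats 1000000

namespace Cfsg.Agent.Spor.Cos.Y432

theorem words_even : words.all (fun w => Nat.beq (w.length % 2) 0 && Act.lettersOk 10 [w]) = true := by decide +kernel

theorem ev_neg_one : ∀ w : List ℕ, (∀ s ∈ w, s < 10) →
    ev (fun s => if s < 10 then (-1 : ℤˣ) else 1) w = (-1) ^ w.length
  | [], _ => rfl
  | s :: w, h => by
    rw [ev, ev_neg_one w fun t ht => h t (List.mem_cons_of_mem _ ht), if_pos (h s (List.mem_cons_self ..)),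
      List.length_cons, pow_succ']

theorem exists_sign : ∃ f : P →* ℤˣ, ∀ s, f (g s) = if s < 10 then -1 else 1 := by
  refine pres.exists_hom _ (fun s => ?_) (fun w hw => ?_) fun s hs => ?_
  · split <;> simp
  · have h := List.all_eq_true.1 words_even w hw
    simp only [Bool.and_eq_true] at h
    rw [ev_neg_one w (Act.lt_of_lettersOk h.2 (List.mem_singleton.2 rfl))]
    exact Even.neg_one_pow (Nat.even_iff.2 (Nat.eq_of_beq_eq_true h.1))
  · rw [if_neg (show ¬ s < 10 from not_lt.2 hs)]

theorem sign_ev {f : P →* ℤˣ} (hf : ∀ s, f (g s) = if s < 10 then -1 else 1) {w : List ℕ} (h : ∀ s ∈ w, s < 10) :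
    f (ev g w) = (-1) ^ w.length := by
  rw [ev_map f g w, show (fun s => f (g s)) = fun s => if s < 10 then (-1 : ℤˣ) else 1 from funext hf, ev_neg_one w h]

theorem piA_fix {w : List ℕ} (hw : w ∈ [zWord, oddWord]) (hl : ∀ s ∈ w, s < 10) : piA (ev g w) = 1 := by
  refine Equiv.ext fun q => Fin.ext ?_
  rw [homA.apply_ev w hl q, Equiv.Perm.one_apply]
  exact Nat.eq_of_beq_eq_true (List.all_eq_true.1 (actA_ker q q.2) w hw)

theorem card_range : 4089470473293004800 ≤ Nat.card piA.range := by
  have := finite
  exact le_trans lev_top.le (Subgroup.card_le_card_group _)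

theorem card_ker_le : Nat.card piA.ker ≤ 2 := by
  have := finite
  have h := Subgroup.card_eq_card_quotient_mul_card_subgroup piA.ker
  rw [Nat.card_congr (QuotientGroup.quotientKerEquivRange piA).toEquiv] at h
  have h1 := card_range
  have h2 := upper.2
  rw [h] at h2
  by_contra hc
  have := Nat.mul_le_mul h1 (show 3 ≤ Nat.card piA.ker by omega)
  omega

theorem z_one : ev g zWord = 1 := by
  have := finite
  by_contra hz
  obtain ⟨f, hf⟩ := exists_sign
  have hlz : ∀ s ∈ zWord, s < 10 := by decide +kernel
  have hlk : ∀ s ∈ oddWord, s < 10 := by decide +kernel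
  have hfz : f (ev g zWord) = 1 := by rw [sign_ev hf hlz]; decide +kernel
  have hfk : f (ev g oddWord) = -1 := by rw [sign_ev hf hlk]; decide +kernel
  have hk : ev g oddWord ≠ 1 := fun e => by rw [e, map_one] at hfk; exact absurd hfk (by decide)
  have hne : ev g zWord ≠ ev g oddWord := fun e => by rw [e, hfk] at hfz; exact absurd hfz (by decide)
  let a : piA.ker := 1
  let b : piA.ker := ⟨_, MonoidHom.mem_ker.2 (piA_fix (by simp) hlz)⟩
  let c : piA.ker := ⟨_, MonoidHom.mem_ker.2 (piA_fix (w := oddWord) (by simp) hlk)⟩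
  have hinj : Function.Injective ![a, b, c] := by
    intro i j h
    fin_cases i <;> fin_cases j <;> simp only [a, b, c, Matrix.cons_val_zero, Matrix.cons_val_one, Matrix.cons_val, Fin.zero_eta, Fin.mk_one, Subtype.ext_iff, OneMemClass.coe_one] at h ⊢ <;>
      first
        | rfl
        | exact absurd h hz | exact absurd h.symm hz
        | exact absurd h hk | exact absurd h.symm hk
        | exact absurd h hne | exact absurd h.symm hne
  have h3 := Nat.card_le_card_of_injective _ hinj
  rw [Nat.card_eq_fintype_card (α := Fin 3), Fintype.card_fin] at h3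
  have := card_ker_le
  omega

end Cfsg.Agent.Spor.Cos.Y432
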