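import Cfsg.Agent.Lib.Spor.Cos.Y432.A4Part0

/-! A checked coset enumeration. -/

set_option autoImplicit false
set_option maxRecDepth 100000
set_option maxHeartbeats 4000000

namespace Cfsg.Agent.Spor.Cos.Y432

theorem a4_def0 : allBlock a4.chkDef 119 512 0 = true := by decide +kernel

theorem a4_defs : ∀ i, i + 1 < a4.M → a4.chkDef i = true := by
  intro i hi
  change i + 1 < 120 at hi
  refine of_allBlock (n := 119) (size := 512) (by decide) (fun j hj => ?_) (by omega)
  have hj' : j < 1 := by omega
  interval_cases j
  · exact a4_def0

theorem a4_facts : ∀ i, a4.M ≤ i + 1 → i < a4.nF → ∃ J, a4.chkFact i J = true := by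
  exact a4.facts_of_covers (a4.covers_of_part _ _ _ a4_part0) rfl rfl

theorem a4_final0 : allBlock a4.chkFinal 480 512 0 = true := by decide +kernel

theorem a4_checks : a4.Checks where
  pos := by decide +kernel
  defs := a4_defs
  facts := a4_facts
  final := by
    intro k hk
    change k < 120 * 4 at hk
    refine of_allBlock (n := 480) (size := 512) (by decide) (fun j hj => ?_) (by omega)
    have hj' : j < 1 := by omega
    interval_cases j
    · exact a4_final0

theorem a4_derived : a4.rels.all (derivedOk a4.n a4Base) = true := by decide +kernel

end Cfsg.Agent.Spor.Cos.Y432
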