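import Cfsg.Agent.Lib.Spor.Cos.Y432.ActAData

/-! Data and checks for a presented sporadic group. -/

set_option autoImplicit false
set_option maxRecDepth 100000
set_option maxHeartbeats 4000000

namespace Cfsg.Agent.Spor.Cos.Y432

theorem actA_inv16 : allBlock (actA.chkInv) 31671 1024 16 = true := by decide +kernel

theorem actA_inv17 : allBlock (actA.chkInv) 31671 1024 17 = true := by decide +kernel

theorem actA_inv18 : allBlock (actA.chkInv) 31671 1024 18 = true := by decide +kernel

theorem actA_inv19 : allBlock (actA.chkInv) 31671 1024 19 = true := by decide +kernel

theorem actA_inv20 : allBlock (actA.chkInv) 31671 1024 20 = true := by decide +kernel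

theorem actA_inv21 : allBlock (actA.chkInv) 31671 1024 21 = true := by decide +kernel

theorem actA_inv22 : allBlock (actA.chkInv) 31671 1024 22 = true := by decide +kernel

theorem actA_inv23 : allBlock (actA.chkInv) 31671 1024 23 = true := by decide +kernel

theorem actA_inv24 : allBlock (actA.chkInv) 31671 1024 24 = true := by decide +kernel

theorem actA_inv25 : allBlock (actA.chkInv) 31671 1024 25 = true := by decide +kernel

theorem actA_inv26 : allBlock (actA.chkInv) 31671 1024 26 = true := by decide +kernel

theorem actA_inv27 : allBlock (actA.chkInv) 31671 1024 27 = true := by decide +kernel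

theorem actA_inv28 : allBlock (actA.chkInv) 31671 1024 28 = true := by decide +kernel

theorem actA_inv29 : allBlock (actA.chkInv) 31671 1024 29 = true := by decide +kernel

theorem actA_inv30 : allBlock (actA.chkInv) 31671 1024 30 = true := by decide +kernel


end Cfsg.Agent.Spor.Cos.Y432
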