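import Cfsg.Agent.Lib.Spor.Cos.Act

/-! Data and checks for a presented sporadic group. -/

set_option autoImplicit false
set_option maxRecDepth 100000
set_option maxHeartbeats 4000000

namespace Cfsg.Agent.Spor.Cos.Y432

/-- The relations as words. -/
def words : List (List ℕ) := [[0, 1, 0, 1, 0, 1], [0, 2, 0, 2], [0, 3, 0, 3], [0, 4, 0, 4], [0, 5, 0, 5, 0, 5], [0, 6, 0, 6], [0, 7, 0, 7], [0, 8, 0, 8, 0, 8], [0, 9, 0, 9], [1, 2, 1, 2, 1, 2], [1, 3, 1, 3], [1, 4, 1, 4], [1, 5, 1, 5], [1, 6, 1, 6], [1, 7, 1, 7], [1, 8, 1, 8], [1, 9, 1, 9], [2, 3, 2, 3, 2, 3], [2, 4, 2, 4], [2, 5, 2, 5], [2, 6, 2, 6], [2, 7, 2, 7], [2, 8, 2, 8], [2, 9, 2, 9], [3, 4, 3, 4, 3, 4], [3, 5, 3, 5], [3, 6, 3, 6], [3, 7, 3, 7], [3, 8, 3, 8], [3, 9, 3, 9], [4,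 5, 4, 5], [4, 6, 4, 6], [4, 7, 4, 7], [4, 8, 4, 8], [4, 9, 4, 9], [5, 6, 5, 6, 5, 6], [5, 7, 5, 7], [5, 8, 5, 8], [5, 9, 5, 9], [6, 7, 6, 7, 6, 7], [6, 8, 6, 8], [6, 9, 6, 9], [7, 8, 7, 8], [7, 9, 7, 9], [8, 9, 8, 9, 8, 9], [0, 1, 2, 0, 5, 6, 0, 8, 9, 0, 1, 2, 0, 5, 6, 0, 8, 9, 0, 1, 2, 0, 5, 6, 0, 8, 9, 0, 1, 2, 0, 5, 6, 0, 8, 9, 0, 1, 2, 0, 5, 6, 0, 8, 9, 0, 1, 2, 0, 5, 6, 0, 8, 9, 0, 1, 2, 0, 5, 6, 0, 8, 9, 0, 1, 2, 0, 5, 6, 0, 8, 9, 0, 1, 2, 0, 5, 6, 0, 8, 9, 0, 1, 2, 0, 5, 6, 0, 8, 9]]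

end Cfsg.Agent.Spor.Cos.Y432
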