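import Cfsg.Agent.Lib.Spor.Cos.Y432.ActAData
import Cfsg.Agent.Lib.Spor.Cos.Y432.Words

/-! Data and checks for a presented sporadic group. -/

set_option autoImplicit false
set_option maxRecDepth 100000
set_option maxHeartbeats 4000000

namespace Cfsg.Agent.Spor.Cos.Y432

theorem actA_rels6 : allBlock (actA.chkFix words) 31671 256 6 = true := by decide +kernel

theorem actA_rels7 : allBlock (actA.chkFix words) 31671 256 7 = true := by decide +kernel

theorem actA_rels8 : allBlock (actA.chkFix words) 31671 256 8 = true := by decide +kernel

theorem actA_rels9 : allBlock (actA.chkFix words) 31671 256 9 = true := by decide +kernel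

theorem actA_rels10 : allBlock (actA.chkFix words) 31671 256 10 = true := by decide +kernel

theorem actA_rels11 : allBlock (actA.chkFix words) 31671 256 11 = true := by decide +kernel


end Cfsg.Agent.Spor.Cos.Y432
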