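import Cfsg.Agent.Lib.Spor.Cos.Y432.ActARel0
import Cfsg.Agent.Lib.Spor.Cos.Y432.ActARel1
import Cfsg.Agent.Lib.Spor.Cos.Y432.ActARel2
import Cfsg.Agent.Lib.Spor.Cos.Y432.ActARel3
import Cfsg.Agent.Lib.Spor.Cos.Y432.ActARel4
import Cfsg.Agent.Lib.Spor.Cos.Y432.ActARel5
import Cfsg.Agent.Lib.Spor.Cos.Y432.ActARel6
import Cfsg.Agent.Lib.Spor.Cos.Y432.ActARel7
import Cfsg.Agent.Lib.Spor.Cos.Y432.ActARel8
import Cfsg.Agent.Lib.Spor.Cos.Y432.ActARel9
import Cfsg.Agent.Lib.Spor.Cos.Y432.ActARel10
import Cfsg.Agent.Lib.Spor.Cos.Y432.ActARel11
import Cfsg.Agent.Lib.Spor.Cos.Y432.ActARel12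
import Cfsg.Agent.Lib.Spor.Cos.Y432.ActARel13
import Cfsg.Agent.Lib.Spor.Cos.Y432.ActARel14
import Cfsg.Agent.Lib.Spor.Cos.Y432.ActARel15
import Cfsg.Agent.Lib.Spor.Cos.Y432.ActARel16
import Cfsg.Agent.Lib.Spor.Cos.Y432.ActARel17
import Cfsg.Agent.Lib.Spor.Cos.Y432.ActARel18
import Cfsg.Agent.Lib.Spor.Cos.Y432.ActARel19
import Cfsg.Agent.Lib.Spor.Cos.Y432.ActARel20

/-! Data and checks for a presented sporadic group. -/

set_option autoImplicit false
set_option maxRecDepth 100000
set_option maxHeartbeats 4000000

namespace Cfsg.Agent.Spor.Cos.Y432

theorem actA_rels : ∀ i < 31671, (actA.chkFix words) i = true :=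
  of_blocks (size := 256) (b := 124) (by decide) (by decide) fun j hj => by
    interval_cases j
    · exact actA_rels0
    · exact actA_rels1
    · exact actA_rels2
    · exact actA_rels3
    · exact actA_rels4
    · exact actA_rels5
    · exact actA_rels6
    · exact actA_rels7
    · exact actA_rels8
    · exact actA_rels9
    · exact actA_rels10
    · exact actA_rels11
    · exact actA_rels12
    · exact actA_rels13
    · exact actA_rels14
    · exact actA_rels15
    · exact actA_rels16
    · exact actA_rels17
    · exact actA_rels18
    · exact actA_rels19
    · exact actA_rels20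
    · exact actA_rels21
    · exact actA_rels22
    · exact actA_rels23
    · exact actA_rels24
    · exact actA_rels25
    · exact actA_rels26
    · exact actA_rels27
    · exact actA_rels28
    · exact actA_rels29
    · exact actA_rels30
    · exact actA_rels31
    · exact actA_rels32
    · exact actA_rels33
    · exact actA_rels34
    · exact actA_rels35
    · exact actA_rels36
    · exact actA_rels37
    · exact actA_rels38
    · exact actA_rels39
    · exact actA_rels40
    · exact actA_rels41
    · exact actA_rels42
    · exact actA_rels43
    · exact actA_rels44
    · exact actA_rels45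
    · exact actA_rels46
    · exact actA_rels47
    · exact actA_rels48
    · exact actA_rels49
    · exact actA_rels50
    · exact actA_rels51
    · exact actA_rels52
    · exact actA_rels53
    · exact actA_rels54
    · exact actA_rels55
    · exact actA_rels56
    · exact actA_rels57
    · exact actA_rels58
    · exact actA_rels59
    · exact actA_rels60
    · exact actA_rels61
    · exact actA_rels62
    · exact actA_rels63
    · exact actA_rels64
    · exact actA_rels65
    · exact actA_rels66
    · exact actA_rels67
    · exact actA_rels68
    · exact actA_rels69
    · exact actA_rels70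
    · exact actA_rels71
    · exact actA_rels72
    · exact actA_rels73
    · exact actA_rels74
    · exact actA_rels75
    · exact actA_rels76
    · exact actA_rels77
    · exact actA_rels78
    · exact actA_rels79
    · exact actA_rels80
    · exact actA_rels81
    · exact actA_rels82
    · exact actA_rels83
    · exact actA_rels84
    · exact actA_rels85
    · exact actA_rels86
    · exact actA_rels87
    · exact actA_rels88
    · exact actA_rels89
    · exact actA_rels90
    · exact actA_rels91
    · exact actA_rels92
    · exact actA_rels93
    · exact actA_rels94
    · exact actA_rels95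
    · exact actA_rels96
    · exact actA_rels97
    · exact actA_rels98
    · exact actA_rels99
    · exact actA_rels100
    · exact actA_rels101
    · exact actA_rels102
    · exact actA_rels103
    · exact actA_rels104
    · exact actA_rels105
    · exact actA_rels106
    · exact actA_rels107
    · exact actA_rels108
    · exact actA_rels109
    · exact actA_rels110
    · exact actA_rels111
    · exact actA_rels112
    · exact actA_rels113
    · exact actA_rels114
    · exact actA_rels115
    · exact actA_rels116
    · exact actA_rels117
    · exact actA_rels118
    · exact actA_rels119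
    · exact actA_rels120
    · exact actA_rels121
    · exact actA_rels122
    · exact actA_rels123

end Cfsg.Agent.Spor.Cos.Y432
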