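import Cfsg.Agent.Lib.Spor.Cos.Y432.ActAData

/-! Data and checks for a presented sporadic group. -/

set_option autoImplicit false
set_option maxRecDepth 100000
set_option maxHeartbeats 4000000

namespace Cfsg.Agent.Spor.Cos.Y432

theorem actA_inv0 : allBlock (actA.chkInv) 31671 1024 0 = true := by decide +kernel

theorem actA_inv1 : allBlock (actA.chkInv) 31671 1024 1 = true := by decide +kernel

theorem actA_inv2 : allBlock (actA.chkInv) 31671 1024 2 = true := by decide +kernel

theorem actA_inv3 : allBlock (actA.chkInv) 31671 1024 3 = true := by decide +kernel

theorem actA_inv4 : allBlock (actA.chkInv) 31671 1024 4 = true := by decide +kernel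

theorem actA_inv5 : allBlock (actA.chkInv) 31671 1024 5 = true := by decide +kernel

theorem actA_inv6 : allBlock (actA.chkInv) 31671 1024 6 = true := by decide +kernel

theorem actA_inv7 : allBlock (actA.chkInv) 31671 1024 7 = true := by decide +kernel

theorem actA_inv8 : allBlock (actA.chkInv) 31671 1024 8 = true := by decide +kernel

theorem actA_inv9 : allBlock (actA.chkInv) 31671 1024 9 = true := by decide +kernel

theorem actA_inv10 : allBlock (actA.chkInv) 31671 1024 10 = true := by decide +kernel

theorem actA_inv11 : allBlock (actA.chkInv) 31671 1024 11 = true := by decide +kernel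

theorem actA_inv12 : allBlock (actA.chkInv) 31671 1024 12 = true := by decide +kernel

theorem actA_inv13 : allBlock (actA.chkInv) 31671 1024 13 = true := by decide +kernel

theorem actA_inv14 : allBlock (actA.chkInv) 31671 1024 14 = true := by decide +kernel

theorem actA_inv15 : allBlock (actA.chkInv) 31671 1024 15 = true := by decide +kernel


end Cfsg.Agent.Spor.Cos.Y432
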