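import Cfsg.Agent.Lib.Spor.Cos.Act

/-! Data and checks for a presented sporadic group. -/

set_option autoImplicit false
set_option maxRecDepth 100000
set_option maxHeartbeats 4000000

namespace Cfsg.Agent.Spor.Cos.Y432

/-- The longest element of a diagram of type E8. -/
def zWord : List ℕ := [0, 1, 2, 3, 4, 5, 8, 9, 0, 1, 2, 3, 4, 5, 8, 9, 0, 1, 2, 3, 4, 5, 8, 9, 0, 1, 2, 3, 4, 5, 8, 9, 0, 1, 2, 3, 4, 5, 8, 9, 0, 1, 2, 3, 4, 5, 8, 9, 0, 1, 2, 3, 4, 5, 8, 9, 0, 1, 2, 3, 4, 5, 8, 9, 0, 1, 2, 3, 4, 5, 8, 9, 0, 1, 2, 3, 4, 5, 8, 9, 0, 1, 2, 3, 4, 5, 8, 9, 0, 1, 2, 3, 4, 5, 8, 9, 0, 1, 2, 3, 4, 5, 8, 9, 0, 1, 2, 3, 4, 5, 8, 9, 0, 1, 2, 3, 4, 5, 8, 9]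

/-- An odd element fixing all points. -/
def oddWord : List ℕ := [0, 5, 6, 7, 1, 2, 8, 0, 5, 6, 7, 1, 2, 8, 0, 5, 6, 7, 1, 2, 8, 0, 5, 6, 7, 1, 2, 8, 0, 5, 6, 7, 1, 2, 8, 0, 5, 6, 7, 1, 2, 8, 0, 5, 6, 7, 1, 2, 8, 0, 5, 6, 7, 1, 2, 8, 0, 5, 6, 7, 1, 2, 8]

end Cfsg.Agent.Spor.Cos.Y432
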