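import Cfsg.Agent.Lib.Spor.Cos.Y432.ActAData
import Cfsg.Agent.Lib.Spor.Cos.Y432.KerWords

/-! Data and checks for a presented sporadic group. -/

set_option autoImplicit false
set_option maxRecDepth 100000
set_option maxHeartbeats 4000000

namespace Cfsg.Agent.Spor.Cos.Y432

theorem actA_ker60 : allBlock (actA.chkFix [zWord, oddWord]) 31671 256 60 = true := by decide +kernel

theorem actA_ker61 : allBlock (actA.chkFix [zWord, oddWord]) 31671 256 61 = true := by decide +kernel

theorem actA_ker62 : allBlock (actA.chkFix [zWord, oddWord]) 31671 256 62 = true := by decide +kernel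

theorem actA_ker63 : allBlock (actA.chkFix [zWord, oddWord]) 31671 256 63 = true := by decide +kernel

theorem actA_ker64 : allBlock (actA.chkFix [zWord, oddWord]) 31671 256 64 = true := by decide +kernel

theorem actA_ker65 : allBlock (actA.chkFix [zWord, oddWord]) 31671 256 65 = true := by decide +kernel


end Cfsg.Agent.Spor.Cos.Y432
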