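import Cfsg.Agent.Lib.Spor.Cos.Y432.ActAKer0
import Cfsg.Agent.Lib.Spor.Cos.Y432.ActAKer1
import Cfsg.Agent.Lib.Spor.Cos.Y432.ActAKer2
import Cfsg.Agent.Lib.Spor.Cos.Y432.ActAKer3
import Cfsg.Agent.Lib.Spor.Cos.Y432.ActAKer4
import Cfsg.Agent.Lib.Spor.Cos.Y432.ActAKer5
import Cfsg.Agent.Lib.Spor.Cos.Y432.ActAKer6
import Cfsg.Agent.Lib.Spor.Cos.Y432.ActAKer7
import Cfsg.Agent.Lib.Spor.Cos.Y432.ActAKer8
import Cfsg.Agent.Lib.Spor.Cos.Y432.ActAKer9
import Cfsg.Agent.Lib.Spor.Cos.Y432.ActAKer10
import Cfsg.Agent.Lib.Spor.Cos.Y432.ActAKer11
import Cfsg.Agent.Lib.Spor.Cos.Y432.ActAKer12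
import Cfsg.Agent.Lib.Spor.Cos.Y432.ActAKer13
import Cfsg.Agent.Lib.Spor.Cos.Y432.ActAKer14
import Cfsg.Agent.Lib.Spor.Cos.Y432.ActAKer15
import Cfsg.Agent.Lib.Spor.Cos.Y432.ActAKer16
import Cfsg.Agent.Lib.Spor.Cos.Y432.ActAKer17
import Cfsg.Agent.Lib.Spor.Cos.Y432.ActAKer18
import Cfsg.Agent.Lib.Spor.Cos.Y432.ActAKer19
import Cfsg.Agent.Lib.Spor.Cos.Y432.ActAKer20

/-! Data and checks for a presented sporadic group. -/

set_option autoImplicit false
set_option maxRecDepth 100000
set_option maxHeartbeats 4000000

namespace Cfsg.Agent.Spor.Cos.Y432

theorem actA_ker : ∀ i < 31671, (actA.chkFix [zWord, oddWord]) i = true :=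
  of_blocks (size := 256) (b := 124) (by decide) (by decide) fun j hj => by
    interval_cases j
    · exact actA_ker0
    · exact actA_ker1
    · exact actA_ker2
    · exact actA_ker3
    · exact actA_ker4
    · exact actA_ker5
    · exact actA_ker6
    · exact actA_ker7
    · exact actA_ker8
    · exact actA_ker9
    · exact actA_ker10
    · exact actA_ker11
    · exact actA_ker12
    · exact actA_ker13
    · exact actA_ker14
    · exact actA_ker15
    · exact actA_ker16
    · exact actA_ker17
    · exact actA_ker18
    · exact actA_ker19
    · exact actA_ker20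
    · exact actA_ker21
    · exact actA_ker22
    · exact actA_ker23
    · exact actA_ker24
    · exact actA_ker25
    · exact actA_ker26
    · exact actA_ker27
    · exact actA_ker28
    · exact actA_ker29
    · exact actA_ker30
    · exact actA_ker31
    · exact actA_ker32
    · exact actA_ker33
    · exact actA_ker34
    · exact actA_ker35
    · exact actA_ker36
    · exact actA_ker37
    · exact actA_ker38
    · exact actA_ker39
    · exact actA_ker40
    · exact actA_ker41
    · exact actA_ker42
    · exact actA_ker43
    · exact actA_ker44
    · exact actA_ker45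
    · exact actA_ker46
    · exact actA_ker47
    · exact actA_ker48
    · exact actA_ker49
    · exact actA_ker50
    · exact actA_ker51
    · exact actA_ker52
    · exact actA_ker53
    · exact actA_ker54
    · exact actA_ker55
    · exact actA_ker56
    · exact actA_ker57
    · exact actA_ker58
    · exact actA_ker59
    · exact actA_ker60
    · exact actA_ker61
    · exact actA_ker62
    · exact actA_ker63
    · exact actA_ker64
    · exact actA_ker65
    · exact actA_ker66
    · exact actA_ker67
    · exact actA_ker68
    · exact actA_ker69
    · exact actA_ker70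
    · exact actA_ker71
    · exact actA_ker72
    · exact actA_ker73
    · exact actA_ker74
    · exact actA_ker75
    · exact actA_ker76
    · exact actA_ker77
    · exact actA_ker78
    · exact actA_ker79
    · exact actA_ker80
    · exact actA_ker81
    · exact actA_ker82
    · exact actA_ker83
    · exact actA_ker84
    · exact actA_ker85
    · exact actA_ker86
    · exact actA_ker87
    · exact actA_ker88
    · exact actA_ker89
    · exact actA_ker90
    · exact actA_ker91
    · exact actA_ker92
    · exact actA_ker93
    · exact actA_ker94
    · exact actA_ker95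
    · exact actA_ker96
    · exact actA_ker97
    · exact actA_ker98
    · exact actA_ker99
    · exact actA_ker100
    · exact actA_ker101
    · exact actA_ker102
    · exact actA_ker103
    · exact actA_ker104
    · exact actA_ker105
    · exact actA_ker106
    · exact actA_ker107
    · exact actA_ker108
    · exact actA_ker109
    · exact actA_ker110
    · exact actA_ker111
    · exact actA_ker112
    · exact actA_ker113
    · exact actA_ker114
    · exact actA_ker115
    · exact actA_ker116
    · exact actA_ker117
    · exact actA_ker118
    · exact actA_ker119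
    · exact actA_ker120
    · exact actA_ker121
    · exact actA_ker122
    · exact actA_ker123

end Cfsg.Agent.Spor.Cos.Y432
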