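import Cfsg.Agent.Lib.Spor.Cos.Y432.E6Data

/-! Checks of the facts of a coset enumeration. -/

set_option autoImplicit false
set_option maxRecDepth 100000
set_option maxHeartbeats 4000000

namespace Cfsg.Agent.Spor.Cos.Y432

theorem e6_part0 : e6.chkPart 26 126 [(28, 0xb40005800065008080005404028000ac0005400063008080004c040280009c0004c00061008080004804028001880005200028010040004c02008000840004a000240001000017c04030000f018160001f000118000880003c0005b0100c000300605800074000380005b0080800030040100006c0003400059008080002c040100015800026000170000b0000480602000080101400054000088000540002800010018080001c040500003c0001c0005100808000180401800034000180004f00808000100401800024000100004d008080000c040180002c000140004f0080800010040400001c0000c0004d008080000c040080000c0000a000040000100012c040300001018140000100000000124020200000010040000000000000f0002280007400034020080005804090002180005c00028020080004804080002000004c0002002008000380407000068000380001401010000200806000048000300000c01010000180805000138000a80007001010000900804000158000b000050010100009808030001a00009400044020080008004020000c8000780002c010100005008010000f8000800003801010000600800), (27, 0x1e00013000090000380013a02018000300c0d00006800044000200000c0004d808060000803034000160000a0004d80404000080201c001300000500003800018000080301000010080b0004b00000c00004020080000804010004a0000040000002008000000400000000000000088002400006600032010040006402030002380006200030010040006002028000b40005e0002e000160002340403000150181a0008a000128000a40005000024018080004404050002100006c000340001a8000dc06020000d01018000820000b8000740003800016018080002804060001f00002a0001b0000d00005006020000901018000190000c00020c02020000a0100000043000210001f40202000090101200040000208001ec020200007010120000b000050001dc020200004010120007a00008800040040100007008040000d000060001dc0202000040100800009000040001d40202000030100800007000030001d402020000301000000720000280001004010000200804000010000180000800000000710100c00000060600000000000004000066000320003680404000320201c000d40002f000188000c00005c03010000b8080b),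 (27, 0xcc00064000d5008080006404048000c400060000d3008080006004000003400005e0002e010040005c02010000f0000740003b0001e8003340403000140181800039000148000a000070000cb0100c00048060600009c0004c000cb008080004804018000d800046000220001b80032404030000d01814000c6000098000640003000012018080002004058003080007c00040000208000fc0602000050101c000c00000380002c0001400006018080000c040700002400010000c1008080000c04030002f80000a00004010040000802038002f00000600002010040000402040002e800002000000100400000020480000000000004800066000320005b80404000320202000062000300005a804040003002004000740002f000170000ec0016602018000b00c0a00057000094000560002a0001200c040002202034001580002300013800098000440301000080080d0005400008400040020080007804050005200007c0003c020080006004050005000006400030020080005004050005200007400038020080006004040005100006c00034020080005804040005000005c0002c020080005004030004f0000540002802008000480403), (18, 0xf8000188000cc0006400030018080006004070003d80005e0002e010040005c02038000b400058000f1008080005404030000ac00054000ef008080004c040300009c0004c000ed008080004804030003b80005200028010040004c02040003a80004a00024010040004402038003a000046000220100400040020380011c00042000200002300039404030000e0181c000450000f80007800088000e30100c0002c060700010c0003200018000210003840403000090181c000e20000d80006804010000b00800000e00000a800050040100009008020003e000088000400007e000df0100c0001406058003700000a00009000040000100602000020101a000da0000180000804010000100806000d8000008000000401000000080800000000000013)]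 = true := by decide +kernel

end Cfsg.Agent.Spor.Cos.Y432
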