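import Cfsg.Agent.Lib.Spor.Cos.Simple
import Cfsg.Agent.Lib.Spor.Cos.Y432.ActA
import Cfsg.Agent.Lib.Spor.Cos.Y432.KerWords
import Cfsg.Agent.Lib.Spor.Cos.Y432.ActAKer
import Cfsg.Agent.Lib.Spor.Cos.Y432.Lv0
import Cfsg.Agent.Lib.Spor.Cos.Y432.Lv1
import Cfsg.Agent.Lib.Spor.Cos.Y432.Lv2
import Cfsg.Agent.Lib.Spor.Cos.Y432.Lv3
import Cfsg.Agent.Lib.Spor.Cos.Y432.Lv4
import Cfsg.Agent.Lib.Spor.Cos.Y432.Lv5
import Cfsg.Agent.Lib.Spor.Cos.Y432.Lv6
import Cfsg.Agent.Lib.Spor.Cos.Y432.Lv7
import Cfsg.Agent.Lib.Spor.Cos.Y432.Lv8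

/-! Data and checks for a presented sporadic group. -/

set_option autoImplicit false
set_option maxRecDepth 100000
set_option maxHeartbeats 4000000

namespace Cfsg.Agent.Spor.Cos.Y432

/-- The generators of the image. -/
noncomputable def gR (s : ℕ) : piA.range := ⟨piA (g s), g s, rfl⟩

theorem homR : actA.Hom gR piA.range.subtype := ⟨actA_inv, fun s => homA.2 s⟩

theorem lev_top : LevR gR actA piA.range.subtype (singles (List.range 10)) 4089470473293004800 [0, 1, 2, 3, 4, 5, 6, 7, 8] := by
  have := finite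
  have h9 : LevR gR actA piA.range.subtype [] 1 [] := LevR.nil
  have h8 : LevR gR actA piA.range.subtype lv8W 2 [8] :=
    LevR.step homR h9 lv8_ok (by decide +kernel) (by decide +kernel) (by decide +kernel)
  have h7 : LevR gR actA piA.range.subtype lv7W 4 [7, 8] :=
    LevR.step homR h8 lv7_ok (by decide +kernel) (by decide +kernel) (by decide +kernel)
  have h6 : LevR gR actA piA.range.subtype lv6W 12 [6, 7, 8] :=
    LevR.step homR h7 lv6_ok (by decide +kernel) (by decide +kernel) (by decide +kernel)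
  have h5 : LevR gR actA piA.range.subtype lv5W 144 [5, 6, 7, 8] :=
    LevR.step homR h6 lv5_ok (by decide +kernel) (by decide +kernel) (by decide +kernel)
  have h4 : LevR gR actA piA.range.subtype lv4W 5040 [4, 5, 6, 7, 8] :=
    LevR.step homR h5 lv4_ok (by decide +kernel) (by decide +kernel) (by decide +kernel)
  have h3 : LevR gR actA piA.range.subtype lv3W 1451520 [3, 4, 5, 6, 7, 8] :=
    LevR.step homR h4 lv3_ok (by decide +kernel) (by decide +kernel) (by decide +kernel)
  have h2 : LevR gR actA piA.range.subtype lv2W 4585351680 [2, 3, 4, 5, 6, 7, 8] :=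
    LevR.step homR h3 lv2_ok (by decide +kernel) (by decide +kernel) (by decide +kernel)
  have h1 : LevR gR actA piA.range.subtype lv1W 129123503308800 [1, 2, 3, 4, 5, 6, 7, 8] :=
    LevR.step homR h2 lv1_ok (by decide +kernel) (by decide +kernel) (by decide +kernel)
  have h0 : LevR gR actA piA.range.subtype (singles (List.range 10)) 4089470473293004800 [0, 1, 2, 3, 4, 5, 6, 7, 8] :=
    LevR.step homR h1 lv0_ok (by decide +kernel) (by decide +kernel) (by decide +kernel)
  exact h0

end Cfsg.Agent.Spor.Cos.Y432
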