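import Cfsg.Agent.Lib.Spor.Cos.Y432.Lv1Data
import Cfsg.Agent.Lib.Spor.Cos.Y432.ActAData

/-! Data and checks for a presented sporadic group. -/

set_option autoImplicit false
set_option maxRecDepth 100000
set_option maxHeartbeats 4000000

namespace Cfsg.Agent.Spor.Cos.Y432

theorem lv1_ents48 : allBlock (lv1.chkEnt actA lv1W 1) 28160 512 48 = true := by decide +kernel

theorem lv1_ents49 : allBlock (lv1.chkEnt actA lv1W 1) 28160 512 49 = true := by decide +kernel

theorem lv1_ents50 : allBlock (lv1.chkEnt actA lv1W 1) 28160 512 50 = true := by decide +kernel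

theorem lv1_ents51 : allBlock (lv1.chkEnt actA lv1W 1) 28160 512 51 = true := by decide +kernel

theorem lv1_ents52 : allBlock (lv1.chkEnt actA lv1W 1) 28160 512 52 = true := by decide +kernel

theorem lv1_ents53 : allBlock (lv1.chkEnt actA lv1W 1) 28160 512 53 = true := by decide +kernel

theorem lv1_ents54 : allBlock (lv1.chkEnt actA lv1W 1) 28160 512 54 = true := by decide +kernel


end Cfsg.Agent.Spor.Cos.Y432
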