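import Cfsg.Agent.Lib.Spor.Cos.Y432.Lv1Data
import Cfsg.Agent.Lib.Spor.Cos.Y432.ActAData

/-! Data and checks for a presented sporadic group. -/

set_option autoImplicit false
set_option maxRecDepth 100000
set_option maxHeartbeats 4000000

namespace Cfsg.Agent.Spor.Cos.Y432

theorem lv1_ents0 : allBlock (lv1.chkEnt actA lv1W 1) 28160 512 0 = true := by decide +kernel

theorem lv1_ents1 : allBlock (lv1.chkEnt actA lv1W 1) 28160 512 1 = true := by decide +kernel

theorem lv1_ents2 : allBlock (lv1.chkEnt actA lv1W 1) 28160 512 2 = true := by decide +kernel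

theorem lv1_ents3 : allBlock (lv1.chkEnt actA lv1W 1) 28160 512 3 = true := by decide +kernel

theorem lv1_ents4 : allBlock (lv1.chkEnt actA lv1W 1) 28160 512 4 = true := by decide +kernel

theorem lv1_ents5 : allBlock (lv1.chkEnt actA lv1W 1) 28160 512 5 = true := by decide +kernel

theorem lv1_ents6 : allBlock (lv1.chkEnt actA lv1W 1) 28160 512 6 = true := by decide +kernel

theorem lv1_ents7 : allBlock (lv1.chkEnt actA lv1W 1) 28160 512 7 = true := by decide +kernel

theorem lv1_ents8 : allBlock (lv1.chkEnt actA lv1W 1) 28160 512 8 = true := by decide +kernel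

theorem lv1_ents9 : allBlock (lv1.chkEnt actA lv1W 1) 28160 512 9 = true := by decide +kernel

theorem lv1_ents10 : allBlock (lv1.chkEnt actA lv1W 1) 28160 512 10 = true := by decide +kernel

theorem lv1_ents11 : allBlock (lv1.chkEnt actA lv1W 1) 28160 512 11 = true := by decide +kernel

theorem lv1_ents12 : allBlock (lv1.chkEnt actA lv1W 1) 28160 512 12 = true := by decide +kernel

theorem lv1_ents13 : allBlock (lv1.chkEnt actA lv1W 1) 28160 512 13 = true := by decide +kernel

theorem lv1_ents14 : allBlock (lv1.chkEnt actA lv1W 1) 28160 512 14 = true := by decide +kernel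

theorem lv1_ents15 : allBlock (lv1.chkEnt actA lv1W 1) 28160 512 15 = true := by decide +kernel

theorem lv1_ents16 : allBlock (lv1.chkEnt actA lv1W 1) 28160 512 16 = true := by decide +kernel

theorem lv1_ents17 : allBlock (lv1.chkEnt actA lv1W 1) 28160 512 17 = true := by decide +kernel

theorem lv1_ents18 : allBlock (lv1.chkEnt actA lv1W 1) 28160 512 18 = true := by decide +kernel

theorem lv1_ents19 : allBlock (lv1.chkEnt actA lv1W 1) 28160 512 19 = true := by decide +kernel

theorem lv1_ents20 : allBlock (lv1.chkEnt actA lv1W 1) 28160 512 20 = true := by decide +kernel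

theorem lv1_ents21 : allBlock (lv1.chkEnt actA lv1W 1) 28160 512 21 = true := by decide +kernel

theorem lv1_ents22 : allBlock (lv1.chkEnt actA lv1W 1) 28160 512 22 = true := by decide +kernel

theorem lv1_ents23 : allBlock (lv1.chkEnt actA lv1W 1) 28160 512 23 = true := by decide +kernel


end Cfsg.Agent.Spor.Cos.Y432
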