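import Cfsg.Agent.Lib.Spor.Cos.Orb

/-! Data and checks for a presented sporadic group. -/

set_option autoImplicit false
set_option maxRecDepth 100000
set_option maxHeartbeats 4000000

namespace Cfsg.Agent.Spor.Cos.Y432

def lv4EB0 : Bst := .node 1 (.leaf 0xb008400050009006500050008000900000008006200040007006400050005003a000000050036000400040008000300040063000500030039000400020037000200020007000400010038000100010006000000000005000000000004) (.node 2 (.leaf 0x4001c03ef0000001b00800004001902630005001803f000040016008100040015009800050014009700020014030c00040012003b0005001100930005000f00940001000f030a0004000e00820005000c000a0001000c00610005000b0085) (.leaf 0x1002107b70000001f03ee0000001d03ea))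

/-- The table lv4E. -/
def lv4E : Tab := ⟨lv4EB0, 48, 4⟩

def lv4PB0 : Bst := .node 15 (.node 7 (.node 3 (.node 1 (.leaf 0x12000d000800040002000100000000000000000000) (.leaf 0)) (.node 5 (.node 4 (.leaf 0x17000a0006000300050009000000000000000000000000) (.leaf 0)) (.node 6 (.leaf 0) (.leaf 0xe000b0007000c00110000)))) (.node 11 (.node 9 (.node 8 (.leaf 0) (.leaf 0x10000f00000013001b001e)) (.node 10 (.leaf 0x1a00190000000000150016000000000000) (.leaf 0))) (.leaf 0))) (.leaf 0)

def lv4PB1 : Bst := .node 45 (.node 37 (.leaf 0) (.node 41 (.node 39 (.node 38 (.leaf 0) (.leaf 0x1d000000000000)) (.leaf 0)) (.leaf 0))) (.node 53 (.node 49 (.node 47 (.leaf 0) (.node 48 (.leaf 0) (.leaf 0x18000000140000000000000000000000000000000000000000))) (.leaf 0)) (.leaf 0))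

def lv4PB2 : Bst := .node 76 (.node 68 (.node 64 (.node 62 (.leaf 0) (.node 63 (.leaf 0x1f002100000000000000200000000000000000000000000000000000000000) (.leaf 0x1c))) (.leaf 0)) (.leaf 0)) (.leaf 0)

def lv4PB3 : Bst := .node 138 (.node 130 (.node 126 (.node 124 (.leaf 0x220000000000000000000000000000) (.leaf 0)) (.leaf 0)) (.leaf 0)) (.leaf 0)

/-- The table lv4P. -/
def lv4P : Tab := ⟨(.node 990 (.node 495 (.node 247 (.node 123 (.node 61 (.node 30 lv4PB0 lv4PB1) (.node 92 lv4PB2 (.leaf 0))) (.node 185 (.node 154 lv4PB3 (.leaf 0)) (.leaf 0))) (.leaf 0)) (.leaf 0)) (.leaf 0)), 16, 4⟩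

/-- The words of `lv4`. -/
def lv4W : List (List ℕ) := [[0], [5], [6], [7], [8], [9]]

/-- An orbit of 35 points. -/
def lv4 : Orb := ⟨35, lv4E, lv4P⟩

end Cfsg.Agent.Spor.Cos.Y432
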