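import Cfsg.Agent.Lib.Spor.Cos.Orb

/-! Data and checks for a presented sporadic group. -/

set_option autoImplicit false
set_option maxRecDepth 100000
set_option maxHeartbeats 4000000

namespace Cfsg.Agent.Spor.Cos.Y432

def lv5EB0 : Bst := .leaf 0x40009008500040007000900030006006400040004003a000300030008000200030063000400020039000300010037000100010007000300000038000000000006000000000005

/-- The table lv5E. -/
def lv5E : Tab := ⟨lv5EB0, 48, 4⟩

def lv5PB0 : Bst := .node 15 (.node 7 (.node 3 (.node 1 (.leaf 0xa000700030001000000000000000000000000) (.leaf 0)) (.node 5 (.node 4 (.leaf 0x80005000200040000000000000000000000000000) (.leaf 0)) (.node 6 (.leaf 0) (.leaf 0x90006000000000000)))) (.node 11 (.node 9 (.node 8 (.leaf 0) (.leaf 0xb00000000000000000000)) (.leaf 0)) (.leaf 0))) (.leaf 0)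

/-- The table lv5P. -/
def lv5P : Tab := ⟨(.node 990 (.node 495 (.node 247 (.node 123 (.node 61 (.node 30 lv5PB0 (.leaf 0)) (.leaf 0)) (.leaf 0)) (.leaf 0)) (.leaf 0)) (.leaf 0)), 16, 4⟩

/-- The words of `lv5`. -/
def lv5W : List (List ℕ) := [[5], [6], [7], [8], [9]]

/-- An orbit of 12 points. -/
def lv5 : Orb := ⟨12, lv5E, lv5P⟩

end Cfsg.Agent.Spor.Cos.Y432
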