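import Cfsg.Agent.Lib.Spor.Cos.Orb

/-! Data and checks for a presented sporadic group. -/

set_option autoImplicit false
set_option maxRecDepth 100000
set_option maxHeartbeats 4000000

namespace Cfsg.Agent.Spor.Cos.Y432

def lv6EB0 : Bst := .leaf 0x100010063000000000007000000000006

/-- The table lv6E. -/
def lv6E : Tab := ⟨lv6EB0, 48, 4⟩

def lv6PB0 : Bst := .node 15 (.node 7 (.node 3 (.node 1 (.leaf 0x10000000000000000000000000000) (.leaf 0)) (.node 5 (.leaf 0) (.node 6 (.leaf 0) (.leaf 0x2000000000000)))) (.leaf 0)) (.leaf 0)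

/-- The table lv6P. -/
def lv6P : Tab := ⟨(.node 990 (.node 495 (.node 247 (.node 123 (.node 61 (.node 30 lv6PB0 (.leaf 0)) (.leaf 0)) (.leaf 0)) (.leaf 0)) (.leaf 0)) (.leaf 0)), 16, 4⟩

/-- The words of `lv6`. -/
def lv6W : List (List ℕ) := [[6], [7], [9]]

/-- An orbit of 3 points. -/
def lv6 : Orb := ⟨3, lv6E, lv6P⟩

end Cfsg.Agent.Spor.Cos.Y432
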