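import Cfsg.Agent.Lib.Spor.Cos.Y432.MidData

/-! A checked coset enumeration. -/

set_option autoImplicit false
set_option maxRecDepth 100000
set_option maxHeartbeats 4000000

namespace Cfsg.Agent.Spor.Cos.Y432

theorem mid_def40 : allBlock mid.chkDef 35570 512 40 = true := by decide +kernel

theorem mid_def41 : allBlock mid.chkDef 35570 512 41 = true := by decide +kernel

theorem mid_def42 : allBlock mid.chkDef 35570 512 42 = true := by decide +kernel

theorem mid_def43 : allBlock mid.chkDef 35570 512 43 = true := by decide +kernel

theorem mid_def44 : allBlock mid.chkDef 35570 512 44 = true := by decide +kernel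

theorem mid_def45 : allBlock mid.chkDef 35570 512 45 = true := by decide +kernel

theorem mid_def46 : allBlock mid.chkDef 35570 512 46 = true := by decide +kernel

theorem mid_def47 : allBlock mid.chkDef 35570 512 47 = true := by decide +kernel

theorem mid_def48 : allBlock mid.chkDef 35570 512 48 = true := by decide +kernel

theorem mid_def49 : allBlock mid.chkDef 35570 512 49 = true := by decide +kernel

theorem mid_def50 : allBlock mid.chkDef 35570 512 50 = true := by decide +kernel

theorem mid_def51 : allBlock mid.chkDef 35570 512 51 = true := by decide +kernel

theorem mid_def52 : allBlock mid.chkDef 35570 512 52 = true := by decide +kernel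

theorem mid_def53 : allBlock mid.chkDef 35570 512 53 = true := by decide +kernel

theorem mid_def54 : allBlock mid.chkDef 35570 512 54 = true := by decide +kernel

theorem mid_def55 : allBlock mid.chkDef 35570 512 55 = true := by decide +kernel

theorem mid_def56 : allBlock mid.chkDef 35570 512 56 = true := by decide +kernel

theorem mid_def57 : allBlock mid.chkDef 35570 512 57 = true := by decide +kernel

theorem mid_def58 : allBlock mid.chkDef 35570 512 58 = true := by decide +kernel

theorem mid_def59 : allBlock mid.chkDef 35570 512 59 = true := by decide +kernel

theorem mid_def60 : allBlock mid.chkDef 35570 512 60 = true := by decide +kernel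

theorem mid_def61 : allBlock mid.chkDef 35570 512 61 = true := by decide +kernel

theorem mid_def62 : allBlock mid.chkDef 35570 512 62 = true := by decide +kernel

theorem mid_def63 : allBlock mid.chkDef 35570 512 63 = true := by decide +kernel

theorem mid_def64 : allBlock mid.chkDef 35570 512 64 = true := by decide +kernel

theorem mid_def65 : allBlock mid.chkDef 35570 512 65 = true := by decide +kernel

theorem mid_def66 : allBlock mid.chkDef 35570 512 66 = true := by decide +kernel

theorem mid_def67 : allBlock mid.chkDef 35570 512 67 = true := by decide +kernel

theorem mid_def68 : allBlock mid.chkDef 35570 512 68 = true := by decide +kernel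

theorem mid_def69 : allBlock mid.chkDef 35570 512 69 = true := by decide +kernel

theorem mid_final0 : allBlock mid.chkFinal 253440 512 0 = true := by decide +kernel

theorem mid_final1 : allBlock mid.chkFinal 253440 512 1 = true := by decide +kernel

theorem mid_final2 : allBlock mid.chkFinal 253440 512 2 = true := by decide +kernel

theorem mid_final3 : allBlock mid.chkFinal 253440 512 3 = true := by decide +kernel

theorem mid_final4 : allBlock mid.chkFinal 253440 512 4 = true := by decide +kernel

theorem mid_final5 : allBlock mid.chkFinal 253440 512 5 = true := by decide +kernel

theorem mid_final6 : allBlock mid.chkFinal 253440 512 6 = true := by decide +kernel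

theorem mid_final7 : allBlock mid.chkFinal 253440 512 7 = true := by decide +kernel

theorem mid_final8 : allBlock mid.chkFinal 253440 512 8 = true := by decide +kernel

theorem mid_final9 : allBlock mid.chkFinal 253440 512 9 = true := by decide +kernel

end Cfsg.Agent.Spor.Cos.Y432
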