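import Cfsg.Agent.Lib.Spor.Cos.Y432.MidData

/-! A checked coset enumeration. -/

set_option autoImplicit false
set_option maxRecDepth 100000
set_option maxHeartbeats 4000000

namespace Cfsg.Agent.Spor.Cos.Y432

theorem mid_final410 : allBlock mid.chkFinal 253440 512 410 = true := by decide +kernel

theorem mid_final411 : allBlock mid.chkFinal 253440 512 411 = true := by decide +kernel

theorem mid_final412 : allBlock mid.chkFinal 253440 512 412 = true := by decide +kernel

theorem mid_final413 : allBlock mid.chkFinal 253440 512 413 = true := by decide +kernel

theorem mid_final414 : allBlock mid.chkFinal 253440 512 414 = true := by decide +kernel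

theorem mid_final415 : allBlock mid.chkFinal 253440 512 415 = true := by decide +kernel

theorem mid_final416 : allBlock mid.chkFinal 253440 512 416 = true := by decide +kernel

theorem mid_final417 : allBlock mid.chkFinal 253440 512 417 = true := by decide +kernel

theorem mid_final418 : allBlock mid.chkFinal 253440 512 418 = true := by decide +kernel

theorem mid_final419 : allBlock mid.chkFinal 253440 512 419 = true := by decide +kernel

theorem mid_final420 : allBlock mid.chkFinal 253440 512 420 = true := by decide +kernel

theorem mid_final421 : allBlock mid.chkFinal 253440 512 421 = true := by decide +kernel

theorem mid_final422 : allBlock mid.chkFinal 253440 512 422 = true := by decide +kernel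

theorem mid_final423 : allBlock mid.chkFinal 253440 512 423 = true := by decide +kernel

theorem mid_final424 : allBlock mid.chkFinal 253440 512 424 = true := by decide +kernel

theorem mid_final425 : allBlock mid.chkFinal 253440 512 425 = true := by decide +kernel

theorem mid_final426 : allBlock mid.chkFinal 253440 512 426 = true := by decide +kernel

theorem mid_final427 : allBlock mid.chkFinal 253440 512 427 = true := by decide +kernel

theorem mid_final428 : allBlock mid.chkFinal 253440 512 428 = true := by decide +kernel

theorem mid_final429 : allBlock mid.chkFinal 253440 512 429 = true := by decide +kernel

theorem mid_final430 : allBlock mid.chkFinal 253440 512 430 = true := by decide +kernel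

theorem mid_final431 : allBlock mid.chkFinal 253440 512 431 = true := by decide +kernel

theorem mid_final432 : allBlock mid.chkFinal 253440 512 432 = true := by decide +kernel

theorem mid_final433 : allBlock mid.chkFinal 253440 512 433 = true := by decide +kernel

theorem mid_final434 : allBlock mid.chkFinal 253440 512 434 = true := by decide +kernel

theorem mid_final435 : allBlock mid.chkFinal 253440 512 435 = true := by decide +kernel

theorem mid_final436 : allBlock mid.chkFinal 253440 512 436 = true := by decide +kernel

theorem mid_final437 : allBlock mid.chkFinal 253440 512 437 = true := by decide +kernel

theorem mid_final438 : allBlock mid.chkFinal 253440 512 438 = true := by decide +kernel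

theorem mid_final439 : allBlock mid.chkFinal 253440 512 439 = true := by decide +kernel

theorem mid_final440 : allBlock mid.chkFinal 253440 512 440 = true := by decide +kernel

theorem mid_final441 : allBlock mid.chkFinal 253440 512 441 = true := by decide +kernel

theorem mid_final442 : allBlock mid.chkFinal 253440 512 442 = true := by decide +kernel

theorem mid_final443 : allBlock mid.chkFinal 253440 512 443 = true := by decide +kernel

theorem mid_final444 : allBlock mid.chkFinal 253440 512 444 = true := by decide +kernel

theorem mid_final445 : allBlock mid.chkFinal 253440 512 445 = true := by decide +kernel

theorem mid_final446 : allBlock mid.chkFinal 253440 512 446 = true := by decide +kernel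

theorem mid_final447 : allBlock mid.chkFinal 253440 512 447 = true := by decide +kernel

theorem mid_final448 : allBlock mid.chkFinal 253440 512 448 = true := by decide +kernel

theorem mid_final449 : allBlock mid.chkFinal 253440 512 449 = true := by decide +kernel

end Cfsg.Agent.Spor.Cos.Y432
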