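import Cfsg.Agent.Lib.Spor.Cos.Y432.MidData

/-! A checked coset enumeration. -/

set_option autoImplicit false
set_option maxRecDepth 100000
set_option maxHeartbeats 4000000

namespace Cfsg.Agent.Spor.Cos.Y432

theorem mid_final10 : allBlock mid.chkFinal 253440 512 10 = true := by decide +kernel

theorem mid_final11 : allBlock mid.chkFinal 253440 512 11 = true := by decide +kernel

theorem mid_final12 : allBlock mid.chkFinal 253440 512 12 = true := by decide +kernel

theorem mid_final13 : allBlock mid.chkFinal 253440 512 13 = true := by decide +kernel

theorem mid_final14 : allBlock mid.chkFinal 253440 512 14 = true := by decide +kernel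

theorem mid_final15 : allBlock mid.chkFinal 253440 512 15 = true := by decide +kernel

theorem mid_final16 : allBlock mid.chkFinal 253440 512 16 = true := by decide +kernel

theorem mid_final17 : allBlock mid.chkFinal 253440 512 17 = true := by decide +kernel

theorem mid_final18 : allBlock mid.chkFinal 253440 512 18 = true := by decide +kernel

theorem mid_final19 : allBlock mid.chkFinal 253440 512 19 = true := by decide +kernel

theorem mid_final20 : allBlock mid.chkFinal 253440 512 20 = true := by decide +kernel

theorem mid_final21 : allBlock mid.chkFinal 253440 512 21 = true := by decide +kernel

theorem mid_final22 : allBlock mid.chkFinal 253440 512 22 = true := by decide +kernel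

theorem mid_final23 : allBlock mid.chkFinal 253440 512 23 = true := by decide +kernel

theorem mid_final24 : allBlock mid.chkFinal 253440 512 24 = true := by decide +kernel

theorem mid_final25 : allBlock mid.chkFinal 253440 512 25 = true := by decide +kernel

theorem mid_final26 : allBlock mid.chkFinal 253440 512 26 = true := by decide +kernel

theorem mid_final27 : allBlock mid.chkFinal 253440 512 27 = true := by decide +kernel

theorem mid_final28 : allBlock mid.chkFinal 253440 512 28 = true := by decide +kernel

theorem mid_final29 : allBlock mid.chkFinal 253440 512 29 = true := by decide +kernel

theorem mid_final30 : allBlock mid.chkFinal 253440 512 30 = true := by decide +kernel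

theorem mid_final31 : allBlock mid.chkFinal 253440 512 31 = true := by decide +kernel

theorem mid_final32 : allBlock mid.chkFinal 253440 512 32 = true := by decide +kernel

theorem mid_final33 : allBlock mid.chkFinal 253440 512 33 = true := by decide +kernel

theorem mid_final34 : allBlock mid.chkFinal 253440 512 34 = true := by decide +kernel

theorem mid_final35 : allBlock mid.chkFinal 253440 512 35 = true := by decide +kernel

theorem mid_final36 : allBlock mid.chkFinal 253440 512 36 = true := by decide +kernel

theorem mid_final37 : allBlock mid.chkFinal 253440 512 37 = true := by decide +kernel

theorem mid_final38 : allBlock mid.chkFinal 253440 512 38 = true := by decide +kernel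

theorem mid_final39 : allBlock mid.chkFinal 253440 512 39 = true := by decide +kernel

theorem mid_final40 : allBlock mid.chkFinal 253440 512 40 = true := by decide +kernel

theorem mid_final41 : allBlock mid.chkFinal 253440 512 41 = true := by decide +kernel

theorem mid_final42 : allBlock mid.chkFinal 253440 512 42 = true := by decide +kernel

theorem mid_final43 : allBlock mid.chkFinal 253440 512 43 = true := by decide +kernel

theorem mid_final44 : allBlock mid.chkFinal 253440 512 44 = true := by decide +kernel

theorem mid_final45 : allBlock mid.chkFinal 253440 512 45 = true := by decide +kernel

theorem mid_final46 : allBlock mid.chkFinal 253440 512 46 = true := by decide +kernel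

theorem mid_final47 : allBlock mid.chkFinal 253440 512 47 = true := by decide +kernel

theorem mid_final48 : allBlock mid.chkFinal 253440 512 48 = true := by decide +kernel

theorem mid_final49 : allBlock mid.chkFinal 253440 512 49 = true := by decide +kernel

end Cfsg.Agent.Spor.Cos.Y432
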