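import Cfsg.Agent.Lib.Spor.Cos.Y432.MidData

/-! A checked coset enumeration. -/

set_option autoImplicit false
set_option maxRecDepth 100000
set_option maxHeartbeats 4000000

namespace Cfsg.Agent.Spor.Cos.Y432

theorem mid_final50 : allBlock mid.chkFinal 253440 512 50 = true := by decide +kernel

theorem mid_final51 : allBlock mid.chkFinal 253440 512 51 = true := by decide +kernel

theorem mid_final52 : allBlock mid.chkFinal 253440 512 52 = true := by decide +kernel

theorem mid_final53 : allBlock mid.chkFinal 253440 512 53 = true := by decide +kernel

theorem mid_final54 : allBlock mid.chkFinal 253440 512 54 = true := by decide +kernel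

theorem mid_final55 : allBlock mid.chkFinal 253440 512 55 = true := by decide +kernel

theorem mid_final56 : allBlock mid.chkFinal 253440 512 56 = true := by decide +kernel

theorem mid_final57 : allBlock mid.chkFinal 253440 512 57 = true := by decide +kernel

theorem mid_final58 : allBlock mid.chkFinal 253440 512 58 = true := by decide +kernel

theorem mid_final59 : allBlock mid.chkFinal 253440 512 59 = true := by decide +kernel

theorem mid_final60 : allBlock mid.chkFinal 253440 512 60 = true := by decide +kernel

theorem mid_final61 : allBlock mid.chkFinal 253440 512 61 = true := by decide +kernel

theorem mid_final62 : allBlock mid.chkFinal 253440 512 62 = true := by decide +kernel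

theorem mid_final63 : allBlock mid.chkFinal 253440 512 63 = true := by decide +kernel

theorem mid_final64 : allBlock mid.chkFinal 253440 512 64 = true := by decide +kernel

theorem mid_final65 : allBlock mid.chkFinal 253440 512 65 = true := by decide +kernel

theorem mid_final66 : allBlock mid.chkFinal 253440 512 66 = true := by decide +kernel

theorem mid_final67 : allBlock mid.chkFinal 253440 512 67 = true := by decide +kernel

theorem mid_final68 : allBlock mid.chkFinal 253440 512 68 = true := by decide +kernel

theorem mid_final69 : allBlock mid.chkFinal 253440 512 69 = true := by decide +kernel

theorem mid_final70 : allBlock mid.chkFinal 253440 512 70 = true := by decide +kernel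

theorem mid_final71 : allBlock mid.chkFinal 253440 512 71 = true := by decide +kernel

theorem mid_final72 : allBlock mid.chkFinal 253440 512 72 = true := by decide +kernel

theorem mid_final73 : allBlock mid.chkFinal 253440 512 73 = true := by decide +kernel

theorem mid_final74 : allBlock mid.chkFinal 253440 512 74 = true := by decide +kernel

theorem mid_final75 : allBlock mid.chkFinal 253440 512 75 = true := by decide +kernel

theorem mid_final76 : allBlock mid.chkFinal 253440 512 76 = true := by decide +kernel

theorem mid_final77 : allBlock mid.chkFinal 253440 512 77 = true := by decide +kernel

theorem mid_final78 : allBlock mid.chkFinal 253440 512 78 = true := by decide +kernel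

theorem mid_final79 : allBlock mid.chkFinal 253440 512 79 = true := by decide +kernel

theorem mid_final80 : allBlock mid.chkFinal 253440 512 80 = true := by decide +kernel

theorem mid_final81 : allBlock mid.chkFinal 253440 512 81 = true := by decide +kernel

theorem mid_final82 : allBlock mid.chkFinal 253440 512 82 = true := by decide +kernel

theorem mid_final83 : allBlock mid.chkFinal 253440 512 83 = true := by decide +kernel

theorem mid_final84 : allBlock mid.chkFinal 253440 512 84 = true := by decide +kernel

theorem mid_final85 : allBlock mid.chkFinal 253440 512 85 = true := by decide +kernel

theorem mid_final86 : allBlock mid.chkFinal 253440 512 86 = true := by decide +kernel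

theorem mid_final87 : allBlock mid.chkFinal 253440 512 87 = true := by decide +kernel

theorem mid_final88 : allBlock mid.chkFinal 253440 512 88 = true := by decide +kernel

theorem mid_final89 : allBlock mid.chkFinal 253440 512 89 = true := by decide +kernel

end Cfsg.Agent.Spor.Cos.Y432
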