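import Cfsg.Agent.Lib.Spor.Cos.Y432.MidData

/-! A checked coset enumeration. -/

set_option autoImplicit false
set_option maxRecDepth 100000
set_option maxHeartbeats 4000000

namespace Cfsg.Agent.Spor.Cos.Y432

theorem mid_final90 : allBlock mid.chkFinal 253440 512 90 = true := by decide +kernel

theorem mid_final91 : allBlock mid.chkFinal 253440 512 91 = true := by decide +kernel

theorem mid_final92 : allBlock mid.chkFinal 253440 512 92 = true := by decide +kernel

theorem mid_final93 : allBlock mid.chkFinal 253440 512 93 = true := by decide +kernel

theorem mid_final94 : allBlock mid.chkFinal 253440 512 94 = true := by decide +kernel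

theorem mid_final95 : allBlock mid.chkFinal 253440 512 95 = true := by decide +kernel

theorem mid_final96 : allBlock mid.chkFinal 253440 512 96 = true := by decide +kernel

theorem mid_final97 : allBlock mid.chkFinal 253440 512 97 = true := by decide +kernel

theorem mid_final98 : allBlock mid.chkFinal 253440 512 98 = true := by decide +kernel

theorem mid_final99 : allBlock mid.chkFinal 253440 512 99 = true := by decide +kernel

theorem mid_final100 : allBlock mid.chkFinal 253440 512 100 = true := by decide +kernel

theorem mid_final101 : allBlock mid.chkFinal 253440 512 101 = true := by decide +kernel

theorem mid_final102 : allBlock mid.chkFinal 253440 512 102 = true := by decide +kernel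

theorem mid_final103 : allBlock mid.chkFinal 253440 512 103 = true := by decide +kernel

theorem mid_final104 : allBlock mid.chkFinal 253440 512 104 = true := by decide +kernel

theorem mid_final105 : allBlock mid.chkFinal 253440 512 105 = true := by decide +kernel

theorem mid_final106 : allBlock mid.chkFinal 253440 512 106 = true := by decide +kernel

theorem mid_final107 : allBlock mid.chkFinal 253440 512 107 = true := by decide +kernel

theorem mid_final108 : allBlock mid.chkFinal 253440 512 108 = true := by decide +kernel

theorem mid_final109 : allBlock mid.chkFinal 253440 512 109 = true := by decide +kernel

theorem mid_final110 : allBlock mid.chkFinal 253440 512 110 = true := by decide +kernel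

theorem mid_final111 : allBlock mid.chkFinal 253440 512 111 = true := by decide +kernel

theorem mid_final112 : allBlock mid.chkFinal 253440 512 112 = true := by decide +kernel

theorem mid_final113 : allBlock mid.chkFinal 253440 512 113 = true := by decide +kernel

theorem mid_final114 : allBlock mid.chkFinal 253440 512 114 = true := by decide +kernel

theorem mid_final115 : allBlock mid.chkFinal 253440 512 115 = true := by decide +kernel

theorem mid_final116 : allBlock mid.chkFinal 253440 512 116 = true := by decide +kernel

theorem mid_final117 : allBlock mid.chkFinal 253440 512 117 = true := by decide +kernel

theorem mid_final118 : allBlock mid.chkFinal 253440 512 118 = true := by decide +kernel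

theorem mid_final119 : allBlock mid.chkFinal 253440 512 119 = true := by decide +kernel

theorem mid_final120 : allBlock mid.chkFinal 253440 512 120 = true := by decide +kernel

theorem mid_final121 : allBlock mid.chkFinal 253440 512 121 = true := by decide +kernel

theorem mid_final122 : allBlock mid.chkFinal 253440 512 122 = true := by decide +kernel

theorem mid_final123 : allBlock mid.chkFinal 253440 512 123 = true := by decide +kernel

theorem mid_final124 : allBlock mid.chkFinal 253440 512 124 = true := by decide +kernel

theorem mid_final125 : allBlock mid.chkFinal 253440 512 125 = true := by decide +kernel

theorem mid_final126 : allBlock mid.chkFinal 253440 512 126 = true := by decide +kernel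

theorem mid_final127 : allBlock mid.chkFinal 253440 512 127 = true := by decide +kernel

theorem mid_final128 : allBlock mid.chkFinal 253440 512 128 = true := by decide +kernel

theorem mid_final129 : allBlock mid.chkFinal 253440 512 129 = true := by decide +kernel

end Cfsg.Agent.Spor.Cos.Y432
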