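import Cfsg.Agent.Lib.Spor.Cos.Y432.MidData

/-! A checked coset enumeration. -/

set_option autoImplicit false
set_option maxRecDepth 100000
set_option maxHeartbeats 4000000

namespace Cfsg.Agent.Spor.Cos.Y432

theorem mid_final210 : allBlock mid.chkFinal 253440 512 210 = true := by decide +kernel

theorem mid_final211 : allBlock mid.chkFinal 253440 512 211 = true := by decide +kernel

theorem mid_final212 : allBlock mid.chkFinal 253440 512 212 = true := by decide +kernel

theorem mid_final213 : allBlock mid.chkFinal 253440 512 213 = true := by decide +kernel

theorem mid_final214 : allBlock mid.chkFinal 253440 512 214 = true := by decide +kernel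

theorem mid_final215 : allBlock mid.chkFinal 253440 512 215 = true := by decide +kernel

theorem mid_final216 : allBlock mid.chkFinal 253440 512 216 = true := by decide +kernel

theorem mid_final217 : allBlock mid.chkFinal 253440 512 217 = true := by decide +kernel

theorem mid_final218 : allBlock mid.chkFinal 253440 512 218 = true := by decide +kernel

theorem mid_final219 : allBlock mid.chkFinal 253440 512 219 = true := by decide +kernel

theorem mid_final220 : allBlock mid.chkFinal 253440 512 220 = true := by decide +kernel

theorem mid_final221 : allBlock mid.chkFinal 253440 512 221 = true := by decide +kernel

theorem mid_final222 : allBlock mid.chkFinal 253440 512 222 = true := by decide +kernel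

theorem mid_final223 : allBlock mid.chkFinal 253440 512 223 = true := by decide +kernel

theorem mid_final224 : allBlock mid.chkFinal 253440 512 224 = true := by decide +kernel

theorem mid_final225 : allBlock mid.chkFinal 253440 512 225 = true := by decide +kernel

theorem mid_final226 : allBlock mid.chkFinal 253440 512 226 = true := by decide +kernel

theorem mid_final227 : allBlock mid.chkFinal 253440 512 227 = true := by decide +kernel

theorem mid_final228 : allBlock mid.chkFinal 253440 512 228 = true := by decide +kernel

theorem mid_final229 : allBlock mid.chkFinal 253440 512 229 = true := by decide +kernel

theorem mid_final230 : allBlock mid.chkFinal 253440 512 230 = true := by decide +kernel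

theorem mid_final231 : allBlock mid.chkFinal 253440 512 231 = true := by decide +kernel

theorem mid_final232 : allBlock mid.chkFinal 253440 512 232 = true := by decide +kernel

theorem mid_final233 : allBlock mid.chkFinal 253440 512 233 = true := by decide +kernel

theorem mid_final234 : allBlock mid.chkFinal 253440 512 234 = true := by decide +kernel

theorem mid_final235 : allBlock mid.chkFinal 253440 512 235 = true := by decide +kernel

theorem mid_final236 : allBlock mid.chkFinal 253440 512 236 = true := by decide +kernel

theorem mid_final237 : allBlock mid.chkFinal 253440 512 237 = true := by decide +kernel

theorem mid_final238 : allBlock mid.chkFinal 253440 512 238 = true := by decide +kernel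

theorem mid_final239 : allBlock mid.chkFinal 253440 512 239 = true := by decide +kernel

theorem mid_final240 : allBlock mid.chkFinal 253440 512 240 = true := by decide +kernel

theorem mid_final241 : allBlock mid.chkFinal 253440 512 241 = true := by decide +kernel

theorem mid_final242 : allBlock mid.chkFinal 253440 512 242 = true := by decide +kernel

theorem mid_final243 : allBlock mid.chkFinal 253440 512 243 = true := by decide +kernel

theorem mid_final244 : allBlock mid.chkFinal 253440 512 244 = true := by decide +kernel

theorem mid_final245 : allBlock mid.chkFinal 253440 512 245 = true := by decide +kernel

theorem mid_final246 : allBlock mid.chkFinal 253440 512 246 = true := by decide +kernel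

theorem mid_final247 : allBlock mid.chkFinal 253440 512 247 = true := by decide +kernel

theorem mid_final248 : allBlock mid.chkFinal 253440 512 248 = true := by decide +kernel

theorem mid_final249 : allBlock mid.chkFinal 253440 512 249 = true := by decide +kernel

end Cfsg.Agent.Spor.Cos.Y432
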