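import Cfsg.Agent.Lib.Spor.Cos.Y432.MidData

/-! A checked coset enumeration. -/

set_option autoImplicit false
set_option maxRecDepth 100000
set_option maxHeartbeats 4000000

namespace Cfsg.Agent.Spor.Cos.Y432

theorem mid_def0 : allBlock mid.chkDef 35570 512 0 = true := by decide +kernel

theorem mid_def1 : allBlock mid.chkDef 35570 512 1 = true := by decide +kernel

theorem mid_def2 : allBlock mid.chkDef 35570 512 2 = true := by decide +kernel

theorem mid_def3 : allBlock mid.chkDef 35570 512 3 = true := by decide +kernel

theorem mid_def4 : allBlock mid.chkDef 35570 512 4 = true := by decide +kernel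

theorem mid_def5 : allBlock mid.chkDef 35570 512 5 = true := by decide +kernel

theorem mid_def6 : allBlock mid.chkDef 35570 512 6 = true := by decide +kernel

theorem mid_def7 : allBlock mid.chkDef 35570 512 7 = true := by decide +kernel

theorem mid_def8 : allBlock mid.chkDef 35570 512 8 = true := by decide +kernel

theorem mid_def9 : allBlock mid.chkDef 35570 512 9 = true := by decide +kernel

theorem mid_def10 : allBlock mid.chkDef 35570 512 10 = true := by decide +kernel

theorem mid_def11 : allBlock mid.chkDef 35570 512 11 = true := by decide +kernel

theorem mid_def12 : allBlock mid.chkDef 35570 512 12 = true := by decide +kernel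

theorem mid_def13 : allBlock mid.chkDef 35570 512 13 = true := by decide +kernel

theorem mid_def14 : allBlock mid.chkDef 35570 512 14 = true := by decide +kernel

theorem mid_def15 : allBlock mid.chkDef 35570 512 15 = true := by decide +kernel

theorem mid_def16 : allBlock mid.chkDef 35570 512 16 = true := by decide +kernel

theorem mid_def17 : allBlock mid.chkDef 35570 512 17 = true := by decide +kernel

theorem mid_def18 : allBlock mid.chkDef 35570 512 18 = true := by decide +kernel

theorem mid_def19 : allBlock mid.chkDef 35570 512 19 = true := by decide +kernel

theorem mid_def20 : allBlock mid.chkDef 35570 512 20 = true := by decide +kernel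

theorem mid_def21 : allBlock mid.chkDef 35570 512 21 = true := by decide +kernel

theorem mid_def22 : allBlock mid.chkDef 35570 512 22 = true := by decide +kernel

theorem mid_def23 : allBlock mid.chkDef 35570 512 23 = true := by decide +kernel

theorem mid_def24 : allBlock mid.chkDef 35570 512 24 = true := by decide +kernel

theorem mid_def25 : allBlock mid.chkDef 35570 512 25 = true := by decide +kernel

theorem mid_def26 : allBlock mid.chkDef 35570 512 26 = true := by decide +kernel

theorem mid_def27 : allBlock mid.chkDef 35570 512 27 = true := by decide +kernel

theorem mid_def28 : allBlock mid.chkDef 35570 512 28 = true := by decide +kernel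

theorem mid_def29 : allBlock mid.chkDef 35570 512 29 = true := by decide +kernel

theorem mid_def30 : allBlock mid.chkDef 35570 512 30 = true := by decide +kernel

theorem mid_def31 : allBlock mid.chkDef 35570 512 31 = true := by decide +kernel

theorem mid_def32 : allBlock mid.chkDef 35570 512 32 = true := by decide +kernel

theorem mid_def33 : allBlock mid.chkDef 35570 512 33 = true := by decide +kernel

theorem mid_def34 : allBlock mid.chkDef 35570 512 34 = true := by decide +kernel

theorem mid_def35 : allBlock mid.chkDef 35570 512 35 = true := by decide +kernel

theorem mid_def36 : allBlock mid.chkDef 35570 512 36 = true := by decide +kernel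

theorem mid_def37 : allBlock mid.chkDef 35570 512 37 = true := by decide +kernel

theorem mid_def38 : allBlock mid.chkDef 35570 512 38 = true := by decide +kernel

theorem mid_def39 : allBlock mid.chkDef 35570 512 39 = true := by decide +kernel

end Cfsg.Agent.Spor.Cos.Y432
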