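import Cfsg.Agent.Lib.Spor.Cos.Y432.TopData

/-! A checked coset enumeration. -/

set_option autoImplicit false
set_option maxRecDepth 100000
set_option maxHeartbeats 4000000

namespace Cfsg.Agent.Spor.Cos.Y432

theorem top_final494 : allBlock top.chkFinal 316710 512 494 = true := by decide +kernel

theorem top_final495 : allBlock top.chkFinal 316710 512 495 = true := by decide +kernel

theorem top_final496 : allBlock top.chkFinal 316710 512 496 = true := by decide +kernel

theorem top_final497 : allBlock top.chkFinal 316710 512 497 = true := by decide +kernel

theorem top_final498 : allBlock top.chkFinal 316710 512 498 = true := by decide +kernel

theorem top_final499 : allBlock top.chkFinal 316710 512 499 = true := by decide +kernel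

theorem top_final500 : allBlock top.chkFinal 316710 512 500 = true := by decide +kernel

theorem top_final501 : allBlock top.chkFinal 316710 512 501 = true := by decide +kernel

theorem top_final502 : allBlock top.chkFinal 316710 512 502 = true := by decide +kernel

theorem top_final503 : allBlock top.chkFinal 316710 512 503 = true := by decide +kernel

theorem top_final504 : allBlock top.chkFinal 316710 512 504 = true := by decide +kernel

theorem top_final505 : allBlock top.chkFinal 316710 512 505 = true := by decide +kernel

theorem top_final506 : allBlock top.chkFinal 316710 512 506 = true := by decide +kernel

theorem top_final507 : allBlock top.chkFinal 316710 512 507 = true := by decide +kernel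

theorem top_final508 : allBlock top.chkFinal 316710 512 508 = true := by decide +kernel

theorem top_final509 : allBlock top.chkFinal 316710 512 509 = true := by decide +kernel

theorem top_final510 : allBlock top.chkFinal 316710 512 510 = true := by decide +kernel

theorem top_final511 : allBlock top.chkFinal 316710 512 511 = true := by decide +kernel

theorem top_final512 : allBlock top.chkFinal 316710 512 512 = true := by decide +kernel

theorem top_final513 : allBlock top.chkFinal 316710 512 513 = true := by decide +kernel

theorem top_final514 : allBlock top.chkFinal 316710 512 514 = true := by decide +kernel

theorem top_final515 : allBlock top.chkFinal 316710 512 515 = true := by decide +kernel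

theorem top_final516 : allBlock top.chkFinal 316710 512 516 = true := by decide +kernel

theorem top_final517 : allBlock top.chkFinal 316710 512 517 = true := by decide +kernel

theorem top_final518 : allBlock top.chkFinal 316710 512 518 = true := by decide +kernel

theorem top_final519 : allBlock top.chkFinal 316710 512 519 = true := by decide +kernel

theorem top_final520 : allBlock top.chkFinal 316710 512 520 = true := by decide +kernel

theorem top_final521 : allBlock top.chkFinal 316710 512 521 = true := by decide +kernel

theorem top_final522 : allBlock top.chkFinal 316710 512 522 = true := by decide +kernel

theorem top_final523 : allBlock top.chkFinal 316710 512 523 = true := by decide +kernel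

theorem top_final524 : allBlock top.chkFinal 316710 512 524 = true := by decide +kernel

theorem top_final525 : allBlock top.chkFinal 316710 512 525 = true := by decide +kernel

theorem top_final526 : allBlock top.chkFinal 316710 512 526 = true := by decide +kernel

theorem top_final527 : allBlock top.chkFinal 316710 512 527 = true := by decide +kernel

theorem top_final528 : allBlock top.chkFinal 316710 512 528 = true := by decide +kernel

theorem top_final529 : allBlock top.chkFinal 316710 512 529 = true := by decide +kernel

theorem top_final530 : allBlock top.chkFinal 316710 512 530 = true := by decide +kernel

theorem top_final531 : allBlock top.chkFinal 316710 512 531 = true := by decide +kernel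

theorem top_final532 : allBlock top.chkFinal 316710 512 532 = true := by decide +kernel

theorem top_final533 : allBlock top.chkFinal 316710 512 533 = true := by decide +kernel

end Cfsg.Agent.Spor.Cos.Y432
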