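import Cfsg.Agent.Lib.Spor.Cos.Y432.TopData

/-! A checked coset enumeration. -/

set_option autoImplicit false
set_option maxRecDepth 100000
set_option maxHeartbeats 4000000

namespace Cfsg.Agent.Spor.Cos.Y432

theorem top_final614 : allBlock top.chkFinal 316710 512 614 = true := by decide +kernel

theorem top_final615 : allBlock top.chkFinal 316710 512 615 = true := by decide +kernel

theorem top_final616 : allBlock top.chkFinal 316710 512 616 = true := by decide +kernel

theorem top_final617 : allBlock top.chkFinal 316710 512 617 = true := by decide +kernel

theorem top_final618 : allBlock top.chkFinal 316710 512 618 = true := by decide +kernel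

end Cfsg.Agent.Spor.Cos.Y432
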