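import Cfsg.Agent.Lib.Spor.Cos.Y432.TopData

/-! A checked coset enumeration. -/

set_option autoImplicit false
set_option maxRecDepth 100000
set_option maxHeartbeats 4000000

namespace Cfsg.Agent.Spor.Cos.Y432

theorem top_def80 : allBlock top.chkDef 54256 512 80 = true := by decide +kernel

theorem top_def81 : allBlock top.chkDef 54256 512 81 = true := by decide +kernel

theorem top_def82 : allBlock top.chkDef 54256 512 82 = true := by decide +kernel

theorem top_def83 : allBlock top.chkDef 54256 512 83 = true := by decide +kernel

theorem top_def84 : allBlock top.chkDef 54256 512 84 = true := by decide +kernel

theorem top_def85 : allBlock top.chkDef 54256 512 85 = true := by decide +kernel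

theorem top_def86 : allBlock top.chkDef 54256 512 86 = true := by decide +kernel

theorem top_def87 : allBlock top.chkDef 54256 512 87 = true := by decide +kernel

theorem top_def88 : allBlock top.chkDef 54256 512 88 = true := by decide +kernel

theorem top_def89 : allBlock top.chkDef 54256 512 89 = true := by decide +kernel

theorem top_def90 : allBlock top.chkDef 54256 512 90 = true := by decide +kernel

theorem top_def91 : allBlock top.chkDef 54256 512 91 = true := by decide +kernel

theorem top_def92 : allBlock top.chkDef 54256 512 92 = true := by decide +kernel

theorem top_def93 : allBlock top.chkDef 54256 512 93 = true := by decide +kernel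

theorem top_def94 : allBlock top.chkDef 54256 512 94 = true := by decide +kernel

theorem top_def95 : allBlock top.chkDef 54256 512 95 = true := by decide +kernel

theorem top_def96 : allBlock top.chkDef 54256 512 96 = true := by decide +kernel

theorem top_def97 : allBlock top.chkDef 54256 512 97 = true := by decide +kernel

theorem top_def98 : allBlock top.chkDef 54256 512 98 = true := by decide +kernel

theorem top_def99 : allBlock top.chkDef 54256 512 99 = true := by decide +kernel

theorem top_def100 : allBlock top.chkDef 54256 512 100 = true := by decide +kernel

theorem top_def101 : allBlock top.chkDef 54256 512 101 = true := by decide +kernel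

theorem top_def102 : allBlock top.chkDef 54256 512 102 = true := by decide +kernel

theorem top_def103 : allBlock top.chkDef 54256 512 103 = true := by decide +kernel

theorem top_def104 : allBlock top.chkDef 54256 512 104 = true := by decide +kernel

theorem top_def105 : allBlock top.chkDef 54256 512 105 = true := by decide +kernel

theorem top_final0 : allBlock top.chkFinal 316710 512 0 = true := by decide +kernel

theorem top_final1 : allBlock top.chkFinal 316710 512 1 = true := by decide +kernel

theorem top_final2 : allBlock top.chkFinal 316710 512 2 = true := by decide +kernel

theorem top_final3 : allBlock top.chkFinal 316710 512 3 = true := by decide +kernel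

theorem top_final4 : allBlock top.chkFinal 316710 512 4 = true := by decide +kernel

theorem top_final5 : allBlock top.chkFinal 316710 512 5 = true := by decide +kernel

theorem top_final6 : allBlock top.chkFinal 316710 512 6 = true := by decide +kernel

theorem top_final7 : allBlock top.chkFinal 316710 512 7 = true := by decide +kernel

theorem top_final8 : allBlock top.chkFinal 316710 512 8 = true := by decide +kernel

theorem top_final9 : allBlock top.chkFinal 316710 512 9 = true := by decide +kernel

theorem top_final10 : allBlock top.chkFinal 316710 512 10 = true := by decide +kernel

theorem top_final11 : allBlock top.chkFinal 316710 512 11 = true := by decide +kernel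

theorem top_final12 : allBlock top.chkFinal 316710 512 12 = true := by decide +kernel

theorem top_final13 : allBlock top.chkFinal 316710 512 13 = true := by decide +kernel

end Cfsg.Agent.Spor.Cos.Y432
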