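import Cfsg.Agent.Lib.Spor.Cos.Y432.TopData

/-! A checked coset enumeration. -/

set_option autoImplicit false
set_option maxRecDepth 100000
set_option maxHeartbeats 4000000

namespace Cfsg.Agent.Spor.Cos.Y432

theorem top_final54 : allBlock top.chkFinal 316710 512 54 = true := by decide +kernel

theorem top_final55 : allBlock top.chkFinal 316710 512 55 = true := by decide +kernel

theorem top_final56 : allBlock top.chkFinal 316710 512 56 = true := by decide +kernel

theorem top_final57 : allBlock top.chkFinal 316710 512 57 = true := by decide +kernel

theorem top_final58 : allBlock top.chkFinal 316710 512 58 = true := by decide +kernel

theorem top_final59 : allBlock top.chkFinal 316710 512 59 = true := by decide +kernel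

theorem top_final60 : allBlock top.chkFinal 316710 512 60 = true := by decide +kernel

theorem top_final61 : allBlock top.chkFinal 316710 512 61 = true := by decide +kernel

theorem top_final62 : allBlock top.chkFinal 316710 512 62 = true := by decide +kernel

theorem top_final63 : allBlock top.chkFinal 316710 512 63 = true := by decide +kernel

theorem top_final64 : allBlock top.chkFinal 316710 512 64 = true := by decide +kernel

theorem top_final65 : allBlock top.chkFinal 316710 512 65 = true := by decide +kernel

theorem top_final66 : allBlock top.chkFinal 316710 512 66 = true := by decide +kernel

theorem top_final67 : allBlock top.chkFinal 316710 512 67 = true := by decide +kernel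

theorem top_final68 : allBlock top.chkFinal 316710 512 68 = true := by decide +kernel

theorem top_final69 : allBlock top.chkFinal 316710 512 69 = true := by decide +kernel

theorem top_final70 : allBlock top.chkFinal 316710 512 70 = true := by decide +kernel

theorem top_final71 : allBlock top.chkFinal 316710 512 71 = true := by decide +kernel

theorem top_final72 : allBlock top.chkFinal 316710 512 72 = true := by decide +kernel

theorem top_final73 : allBlock top.chkFinal 316710 512 73 = true := by decide +kernel

theorem top_final74 : allBlock top.chkFinal 316710 512 74 = true := by decide +kernel

theorem top_final75 : allBlock top.chkFinal 316710 512 75 = true := by decide +kernel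

theorem top_final76 : allBlock top.chkFinal 316710 512 76 = true := by decide +kernel

theorem top_final77 : allBlock top.chkFinal 316710 512 77 = true := by decide +kernel

theorem top_final78 : allBlock top.chkFinal 316710 512 78 = true := by decide +kernel

theorem top_final79 : allBlock top.chkFinal 316710 512 79 = true := by decide +kernel

theorem top_final80 : allBlock top.chkFinal 316710 512 80 = true := by decide +kernel

theorem top_final81 : allBlock top.chkFinal 316710 512 81 = true := by decide +kernel

theorem top_final82 : allBlock top.chkFinal 316710 512 82 = true := by decide +kernel

theorem top_final83 : allBlock top.chkFinal 316710 512 83 = true := by decide +kernel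

theorem top_final84 : allBlock top.chkFinal 316710 512 84 = true := by decide +kernel

theorem top_final85 : allBlock top.chkFinal 316710 512 85 = true := by decide +kernel

theorem top_final86 : allBlock top.chkFinal 316710 512 86 = true := by decide +kernel

theorem top_final87 : allBlock top.chkFinal 316710 512 87 = true := by decide +kernel

theorem top_final88 : allBlock top.chkFinal 316710 512 88 = true := by decide +kernel

theorem top_final89 : allBlock top.chkFinal 316710 512 89 = true := by decide +kernel

theorem top_final90 : allBlock top.chkFinal 316710 512 90 = true := by decide +kernel

theorem top_final91 : allBlock top.chkFinal 316710 512 91 = true := by decide +kernel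

theorem top_final92 : allBlock top.chkFinal 316710 512 92 = true := by decide +kernel

theorem top_final93 : allBlock top.chkFinal 316710 512 93 = true := by decide +kernel

end Cfsg.Agent.Spor.Cos.Y432
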