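import Cfsg.Agent.Lib.Spor.Cos.Y432.TopData

/-! A checked coset enumeration. -/

set_option autoImplicit false
set_option maxRecDepth 100000
set_option maxHeartbeats 4000000

namespace Cfsg.Agent.Spor.Cos.Y432

theorem top_final174 : allBlock top.chkFinal 316710 512 174 = true := by decide +kernel

theorem top_final175 : allBlock top.chkFinal 316710 512 175 = true := by decide +kernel

theorem top_final176 : allBlock top.chkFinal 316710 512 176 = true := by decide +kernel

theorem top_final177 : allBlock top.chkFinal 316710 512 177 = true := by decide +kernel

theorem top_final178 : allBlock top.chkFinal 316710 512 178 = true := by decide +kernel

theorem top_final179 : allBlock top.chkFinal 316710 512 179 = true := by decide +kernel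

theorem top_final180 : allBlock top.chkFinal 316710 512 180 = true := by decide +kernel

theorem top_final181 : allBlock top.chkFinal 316710 512 181 = true := by decide +kernel

theorem top_final182 : allBlock top.chkFinal 316710 512 182 = true := by decide +kernel

theorem top_final183 : allBlock top.chkFinal 316710 512 183 = true := by decide +kernel

theorem top_final184 : allBlock top.chkFinal 316710 512 184 = true := by decide +kernel

theorem top_final185 : allBlock top.chkFinal 316710 512 185 = true := by decide +kernel

theorem top_final186 : allBlock top.chkFinal 316710 512 186 = true := by decide +kernel

theorem top_final187 : allBlock top.chkFinal 316710 512 187 = true := by decide +kernel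

theorem top_final188 : allBlock top.chkFinal 316710 512 188 = true := by decide +kernel

theorem top_final189 : allBlock top.chkFinal 316710 512 189 = true := by decide +kernel

theorem top_final190 : allBlock top.chkFinal 316710 512 190 = true := by decide +kernel

theorem top_final191 : allBlock top.chkFinal 316710 512 191 = true := by decide +kernel

theorem top_final192 : allBlock top.chkFinal 316710 512 192 = true := by decide +kernel

theorem top_final193 : allBlock top.chkFinal 316710 512 193 = true := by decide +kernel

theorem top_final194 : allBlock top.chkFinal 316710 512 194 = true := by decide +kernel

theorem top_final195 : allBlock top.chkFinal 316710 512 195 = true := by decide +kernel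

theorem top_final196 : allBlock top.chkFinal 316710 512 196 = true := by decide +kernel

theorem top_final197 : allBlock top.chkFinal 316710 512 197 = true := by decide +kernel

theorem top_final198 : allBlock top.chkFinal 316710 512 198 = true := by decide +kernel

theorem top_final199 : allBlock top.chkFinal 316710 512 199 = true := by decide +kernel

theorem top_final200 : allBlock top.chkFinal 316710 512 200 = true := by decide +kernel

theorem top_final201 : allBlock top.chkFinal 316710 512 201 = true := by decide +kernel

theorem top_final202 : allBlock top.chkFinal 316710 512 202 = true := by decide +kernel

theorem top_final203 : allBlock top.chkFinal 316710 512 203 = true := by decide +kernel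

theorem top_final204 : allBlock top.chkFinal 316710 512 204 = true := by decide +kernel

theorem top_final205 : allBlock top.chkFinal 316710 512 205 = true := by decide +kernel

theorem top_final206 : allBlock top.chkFinal 316710 512 206 = true := by decide +kernel

theorem top_final207 : allBlock top.chkFinal 316710 512 207 = true := by decide +kernel

theorem top_final208 : allBlock top.chkFinal 316710 512 208 = true := by decide +kernel

theorem top_final209 : allBlock top.chkFinal 316710 512 209 = true := by decide +kernel

theorem top_final210 : allBlock top.chkFinal 316710 512 210 = true := by decide +kernel

theorem top_final211 : allBlock top.chkFinal 316710 512 211 = true := by decide +kernel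

theorem top_final212 : allBlock top.chkFinal 316710 512 212 = true := by decide +kernel

theorem top_final213 : allBlock top.chkFinal 316710 512 213 = true := by decide +kernel

end Cfsg.Agent.Spor.Cos.Y432
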