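import Cfsg.Agent.Lib.Spor.Cos.Y432.TopData

/-! A checked coset enumeration. -/

set_option autoImplicit false
set_option maxRecDepth 100000
set_option maxHeartbeats 4000000

namespace Cfsg.Agent.Spor.Cos.Y432

theorem top_final254 : allBlock top.chkFinal 316710 512 254 = true := by decide +kernel

theorem top_final255 : allBlock top.chkFinal 316710 512 255 = true := by decide +kernel

theorem top_final256 : allBlock top.chkFinal 316710 512 256 = true := by decide +kernel

theorem top_final257 : allBlock top.chkFinal 316710 512 257 = true := by decide +kernel

theorem top_final258 : allBlock top.chkFinal 316710 512 258 = true := by decide +kernel

theorem top_final259 : allBlock top.chkFinal 316710 512 259 = true := by decide +kernel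

theorem top_final260 : allBlock top.chkFinal 316710 512 260 = true := by decide +kernel

theorem top_final261 : allBlock top.chkFinal 316710 512 261 = true := by decide +kernel

theorem top_final262 : allBlock top.chkFinal 316710 512 262 = true := by decide +kernel

theorem top_final263 : allBlock top.chkFinal 316710 512 263 = true := by decide +kernel

theorem top_final264 : allBlock top.chkFinal 316710 512 264 = true := by decide +kernel

theorem top_final265 : allBlock top.chkFinal 316710 512 265 = true := by decide +kernel

theorem top_final266 : allBlock top.chkFinal 316710 512 266 = true := by decide +kernel

theorem top_final267 : allBlock top.chkFinal 316710 512 267 = true := by decide +kernel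

theorem top_final268 : allBlock top.chkFinal 316710 512 268 = true := by decide +kernel

theorem top_final269 : allBlock top.chkFinal 316710 512 269 = true := by decide +kernel

theorem top_final270 : allBlock top.chkFinal 316710 512 270 = true := by decide +kernel

theorem top_final271 : allBlock top.chkFinal 316710 512 271 = true := by decide +kernel

theorem top_final272 : allBlock top.chkFinal 316710 512 272 = true := by decide +kernel

theorem top_final273 : allBlock top.chkFinal 316710 512 273 = true := by decide +kernel

theorem top_final274 : allBlock top.chkFinal 316710 512 274 = true := by decide +kernel

theorem top_final275 : allBlock top.chkFinal 316710 512 275 = true := by decide +kernel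

theorem top_final276 : allBlock top.chkFinal 316710 512 276 = true := by decide +kernel

theorem top_final277 : allBlock top.chkFinal 316710 512 277 = true := by decide +kernel

theorem top_final278 : allBlock top.chkFinal 316710 512 278 = true := by decide +kernel

theorem top_final279 : allBlock top.chkFinal 316710 512 279 = true := by decide +kernel

theorem top_final280 : allBlock top.chkFinal 316710 512 280 = true := by decide +kernel

theorem top_final281 : allBlock top.chkFinal 316710 512 281 = true := by decide +kernel

theorem top_final282 : allBlock top.chkFinal 316710 512 282 = true := by decide +kernel

theorem top_final283 : allBlock top.chkFinal 316710 512 283 = true := by decide +kernel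

theorem top_final284 : allBlock top.chkFinal 316710 512 284 = true := by decide +kernel

theorem top_final285 : allBlock top.chkFinal 316710 512 285 = true := by decide +kernel

theorem top_final286 : allBlock top.chkFinal 316710 512 286 = true := by decide +kernel

theorem top_final287 : allBlock top.chkFinal 316710 512 287 = true := by decide +kernel

theorem top_final288 : allBlock top.chkFinal 316710 512 288 = true := by decide +kernel

theorem top_final289 : allBlock top.chkFinal 316710 512 289 = true := by decide +kernel

theorem top_final290 : allBlock top.chkFinal 316710 512 290 = true := by decide +kernel

theorem top_final291 : allBlock top.chkFinal 316710 512 291 = true := by decide +kernel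

theorem top_final292 : allBlock top.chkFinal 316710 512 292 = true := by decide +kernel

theorem top_final293 : allBlock top.chkFinal 316710 512 293 = true := by decide +kernel

end Cfsg.Agent.Spor.Cos.Y432
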