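import Cfsg.Agent.Lib.Spor.Cos.Y432.TopPart0
import Cfsg.Agent.Lib.Spor.Cos.Y432.TopPart1
import Cfsg.Agent.Lib.Spor.Cos.Y432.TopPart2
import Cfsg.Agent.Lib.Spor.Cos.Y432.TopPart3
import Cfsg.Agent.Lib.Spor.Cos.Y432.TopPart4
import Cfsg.Agent.Lib.Spor.Cos.Y432.TopPart5
import Cfsg.Agent.Lib.Spor.Cos.Y432.TopPart6
import Cfsg.Agent.Lib.Spor.Cos.Y432.TopPart7
import Cfsg.Agent.Lib.Spor.Cos.Y432.TopPart8
import Cfsg.Agent.Lib.Spor.Cos.Y432.TopPart9
import Cfsg.Agent.Lib.Spor.Cos.Y432.TopPart10
import Cfsg.Agent.Lib.Spor.Cos.Y432.TopPart11
import Cfsg.Agent.Lib.Spor.Cos.Y432.TopPart12
import Cfsg.Agent.Lib.Spor.Cos.Y432.TopPart13
import Cfsg.Agent.Lib.Spor.Cos.Y432.TopPart14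
import Cfsg.Agent.Lib.Spor.Cos.Y432.TopPart15
import Cfsg.Agent.Lib.Spor.Cos.Y432.TopPart16
import Cfsg.Agent.Lib.Spor.Cos.Y432.TopPart17
import Cfsg.Agent.Lib.Spor.Cos.Y432.TopPart18
import Cfsg.Agent.Lib.Spor.Cos.Y432.TopChk0
import Cfsg.Agent.Lib.Spor.Cos.Y432.TopChk1
import Cfsg.Agent.Lib.Spor.Cos.Y432.TopChk2
import Cfsg.Agent.Lib.Spor.Cos.Y432.TopChk3
import Cfsg.Agent.Lib.Spor.Cos.Y432.TopChk4
import Cfsg.Agent.Lib.Spor.Cos.Y432.TopChk5
import Cfsg.Agent.Lib.Spor.Cos.Y432.TopChk6
import Cfsg.Agent.Lib.Spor.Cos.Y432.TopChk7
import Cfsg.Agent.Lib.Spor.Cos.Y432.TopChk8
import Cfsg.Agent.Lib.Spor.Cos.Y432.TopChk9
import Cfsg.Agent.Lib.Spor.Cos.Y432.TopChk10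
import Cfsg.Agent.Lib.Spor.Cos.Y432.TopChk11
import Cfsg.Agent.Lib.Spor.Cos.Y432.TopChk12
import Cfsg.Agent.Lib.Spor.Cos.Y432.TopChk13
import Cfsg.Agent.Lib.Spor.Cos.Y432.TopChk14
import Cfsg.Agent.Lib.Spor.Cos.Y432.TopChk15
import Cfsg.Agent.Lib.Spor.Cos.Y432.TopChk16
import Cfsg.Agent.Lib.Spor.Cos.Y432.TopChk17
import Cfsg.Agent.Lib.Spor.Cos.Y432.TopChk18

/-! A checked coset enumeration. -/

set_option autoImplicit false
set_option maxRecDepth 100000
set_option maxHeartbeats 4000000

namespace Cfsg.Agent.Spor.Cos.Y432

theorem top_defs : ∀ i, i + 1 < top.M → top.chkDef i = true := by
  intro i hi
  change i + 1 < 54257 at hi
  refine of_allBlock (n := 54256) (size := 512) (by decide) (fun j hj => ?_) (by omega)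
  have hj' : j < 106 := by omega
  interval_cases j
  · exact top_def0
  · exact top_def1
  · exact top_def2
  · exact top_def3
  · exact top_def4
  · exact top_def5
  · exact top_def6
  · exact top_def7
  · exact top_def8
  · exact top_def9
  · exact top_def10
  · exact top_def11
  · exact top_def12
  · exact top_def13
  · exact top_def14
  · exact top_def15
  · exact top_def16
  · exact top_def17
  · exact top_def18
  · exact top_def19
  · exact top_def20
  · exact top_def21
  · exact top_def22
  · exact top_def23
  · exact top_def24
  · exact top_def25
  · exact top_def26
  · exact top_def27
  · exact top_def28
  · exact top_def29
  · exact top_def30
  · exact top_def31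
  · exact top_def32
  · exact top_def33
  · exact top_def34
  · exact top_def35
  · exact top_def36
  · exact top_def37
  · exact top_def38
  · exact top_def39
  · exact top_def40
  · exact top_def41
  · exact top_def42
  · exact top_def43
  · exact top_def44
  · exact top_def45
  · exact top_def46
  · exact top_def47
  · exact top_def48
  · exact top_def49
  · exact top_def50
  · exact top_def51
  · exact top_def52
  · exact top_def53
  · exact top_def54
  · exact top_def55
  · exact top_def56
  · exact top_def57
  · exact top_def58
  · exact top_def59
  · exact top_def60
  · exact top_def61
  · exact top_def62
  · exact top_def63
  · exact top_def64
  · exact top_def65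
  · exact top_def66
  · exact top_def67
  · exact top_def68
  · exact top_def69
  · exact top_def70
  · exact top_def71
  · exact top_def72
  · exact top_def73
  · exact top_def74
  · exact top_def75
  · exact top_def76
  · exact top_def77
  · exact top_def78
  · exact top_def79
  · exact top_def80
  · exact top_def81
  · exact top_def82
  · exact top_def83
  · exact top_def84
  · exact top_def85
  · exact top_def86
  · exact top_def87
  · exact top_def88
  · exact top_def89
  · exact top_def90
  · exact top_def91
  · exact top_def92
  · exact top_def93
  · exact top_def94
  · exact top_def95
  · exact top_def96
  · exact top_def97
  · exact top_def98
  · exact top_def99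
  · exact top_def100
  · exact top_def101
  · exact top_def102
  · exact top_def103
  · exact top_def104
  · exact top_def105

theorem top_facts : ∀ i, top.M ≤ i + 1 → i < top.nF → ∃ J, top.chkFact i J = true := by
  exact top.facts_of_covers (Log.Covers.trans top (Log.Covers.trans top (Log.Covers.trans top (Log.Covers.trans top (Log.Covers.trans top (Log.Covers.trans top (Log.Covers.trans top (top.covers_of_part _ _ _ top_part0) (Log.Covers.trans top (top.covers_of_part _ _ _ top_part1) (top.covers_of_part _ _ _ top_part2))) (Log.Covers.trans top (Log.Covers.trans top (top.covers_of_part _ _ _ top_part3) (top.covers_of_part _ _ _ top_part4)) (Log.Covers.trans top (top.covers_of_part _ _ _ top_part5) (top.covers_of_part _ _ _ top_part6)))) (Log.Covers.trans top (Log.Covers.trans top (top.covers_of_part _ _ _ top_part7) (Log.Covers.trans top (top.covers_of_part _ _ _ top_part8) (top.covers_of_part _ _ _ top_part9))) (Log.Covers.trans top (Log.Covers.trans top (top.covers_of_part _ _ _ top_part10) (top.covers_of_part _ _ _ top_part11)) (Log.Covers.trans top (top.covers_of_part _ _ _ top_part12) (top.covers_of_part _ _ _ top_part13))))) (Log.Covers.trans top (Log.Covers.trans top (Log.Covers.trans top (top.covers_of_part _ _ _ top_part14) (Log.Covers.trans top (top.covers_of_part _ _ _ top_part15) (top.covers_of_part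 _ _ _ top_part16))) (Log.Covers.trans top (Log.Covers.trans top (top.covers_of_part _ _ _ top_part17) (top.covers_of_part _ _ _ top_part18)) (Log.Covers.trans top (top.covers_of_part _ _ _ top_part19) (top.covers_of_part _ _ _ top_part20)))) (Log.Covers.trans top (Log.Covers.trans top (top.covers_of_part _ _ _ top_part21) (Log.Covers.trans top (top.covers_of_part _ _ _ top_part22) (top.covers_of_part _ _ _ top_part23))) (Log.Covers.trans top (Log.Covers.trans top (top.covers_of_part _ _ _ top_part24) (top.covers_of_part _ _ _ top_part25)) (Log.Covers.trans top (top.covers_of_part _ _ _ top_part26) (top.covers_of_part _ _ _ top_part27)))))) (Log.Covers.trans top (Log.Covers.trans top (Log.Covers.trans top (Log.Covers.trans top (top.covers_of_part _ _ _ top_part28) (Log.Covers.trans top (top.covers_of_part _ _ _ top_part29) (top.covers_of_part _ _ _ top_part30))) (Log.Covers.trans top (Log.Covers.trans top (top.covers_of_part _ _ _ top_part31) (top.covers_of_part _ _ _ top_part32)) (Log.Covers.trans top (top.covers_of_part _ _ _ top_part33) (top.covers_of_part _ _ _ top_part34)))) (Log.Covers.trans top (Log.Covers.trans top (top.covers_of_part _ _ _ top_part35) (Log.Covers.trans top (top.covers_of_part _ _ _ top_part36) (top.covers_of_part _ _ _ top_part37))) (Log.Covers.trans top (Log.Covers.trans top (top.covers_of_part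 _ _ _ top_part38) (top.covers_of_part _ _ _ top_part39)) (Log.Covers.trans top (top.covers_of_part _ _ _ top_part40) (top.covers_of_part _ _ _ top_part41))))) (Log.Covers.trans top (Log.Covers.trans top (Log.Covers.trans top (top.covers_of_part _ _ _ top_part42) (Log.Covers.trans top (top.covers_of_part _ _ _ top_part43) (top.covers_of_part _ _ _ top_part44))) (Log.Covers.trans top (Log.Covers.trans top (top.covers_of_part _ _ _ top_part45) (top.covers_of_part _ _ _ top_part46)) (Log.Covers.trans top (top.covers_of_part _ _ _ top_part47) (top.covers_of_part _ _ _ top_part48)))) (Log.Covers.trans top (Log.Covers.trans top (top.covers_of_part _ _ _ top_part49) (Log.Covers.trans top (top.covers_of_part _ _ _ top_part50) (top.covers_of_part _ _ _ top_part51))) (Log.Covers.trans top (Log.Covers.trans top (top.covers_of_part _ _ _ top_part52) (top.covers_of_part _ _ _ top_part53)) (Log.Covers.trans top (top.covers_of_part _ _ _ top_part54) (top.covers_of_part _ _ _ top_part55))))))) (Log.Covers.trans top (Log.Covers.trans top (Log.Covers.trans top (Log.Covers.trans top (Log.Covers.trans top (top.covers_of_part _ _ _ top_part56) (Log.Covers.trans top (top.covers_of_part _ _ _ top_part57) (top.covers_of_part _ _ _ top_part58))) (Log.Covers.trans top (Log.Covers.trans top (top.covers_of_part _ _ _ top_part59) (top.covers_of_part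 _ _ _ top_part60)) (Log.Covers.trans top (top.covers_of_part _ _ _ top_part61) (top.covers_of_part _ _ _ top_part62)))) (Log.Covers.trans top (Log.Covers.trans top (top.covers_of_part _ _ _ top_part63) (Log.Covers.trans top (top.covers_of_part _ _ _ top_part64) (top.covers_of_part _ _ _ top_part65))) (Log.Covers.trans top (Log.Covers.trans top (top.covers_of_part _ _ _ top_part66) (top.covers_of_part _ _ _ top_part67)) (Log.Covers.trans top (top.covers_of_part _ _ _ top_part68) (top.covers_of_part _ _ _ top_part69))))) (Log.Covers.trans top (Log.Covers.trans top (Log.Covers.trans top (top.covers_of_part _ _ _ top_part70) (Log.Covers.trans top (top.covers_of_part _ _ _ top_part71) (top.covers_of_part _ _ _ top_part72))) (Log.Covers.trans top (Log.Covers.trans top (top.covers_of_part _ _ _ top_part73) (top.covers_of_part _ _ _ top_part74)) (Log.Covers.trans top (top.covers_of_part _ _ _ top_part75) (top.covers_of_part _ _ _ top_part76)))) (Log.Covers.trans top (Log.Covers.trans top (top.covers_of_part _ _ _ top_part77) (Log.Covers.trans top (top.covers_of_part _ _ _ top_part78) (top.covers_of_part _ _ _ top_part79))) (Log.Covers.trans top (Log.Covers.trans top (top.covers_of_part _ _ _ top_part80) (top.covers_of_part _ _ _ top_part81)) (Log.Covers.trans top (top.covers_of_part _ _ _ top_part82) (top.covers_of_part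 _ _ _ top_part83)))))) (Log.Covers.trans top (Log.Covers.trans top (Log.Covers.trans top (Log.Covers.trans top (top.covers_of_part _ _ _ top_part84) (Log.Covers.trans top (top.covers_of_part _ _ _ top_part85) (top.covers_of_part _ _ _ top_part86))) (Log.Covers.trans top (Log.Covers.trans top (top.covers_of_part _ _ _ top_part87) (top.covers_of_part _ _ _ top_part88)) (Log.Covers.trans top (top.covers_of_part _ _ _ top_part89) (top.covers_of_part _ _ _ top_part90)))) (Log.Covers.trans top (Log.Covers.trans top (top.covers_of_part _ _ _ top_part91) (Log.Covers.trans top (top.covers_of_part _ _ _ top_part92) (top.covers_of_part _ _ _ top_part93))) (Log.Covers.trans top (Log.Covers.trans top (top.covers_of_part _ _ _ top_part94) (top.covers_of_part _ _ _ top_part95)) (Log.Covers.trans top (top.covers_of_part _ _ _ top_part96) (top.covers_of_part _ _ _ top_part97))))) (Log.Covers.trans top (Log.Covers.trans top (Log.Covers.trans top (top.covers_of_part _ _ _ top_part98) (Log.Covers.trans top (top.covers_of_part _ _ _ top_part99) (top.covers_of_part _ _ _ top_part100))) (Log.Covers.trans top (Log.Covers.trans top (top.covers_of_part _ _ _ top_part101) (top.covers_of_part _ _ _ top_part102)) (Log.Covers.trans top (top.covers_of_part _ _ _ top_part103) (top.covers_of_part _ _ _ top_part104)))) (Log.Covers.trans top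 (Log.Covers.trans top (Log.Covers.trans top (top.covers_of_part _ _ _ top_part105) (top.covers_of_part _ _ _ top_part106)) (Log.Covers.trans top (top.covers_of_part _ _ _ top_part107) (top.covers_of_part _ _ _ top_part108))) (Log.Covers.trans top (Log.Covers.trans top (top.covers_of_part _ _ _ top_part109) (top.covers_of_part _ _ _ top_part110)) (Log.Covers.trans top (top.covers_of_part _ _ _ top_part111) (top.covers_of_part _ _ _ top_part112)))))))) (Log.Covers.trans top (Log.Covers.trans top (Log.Covers.trans top (Log.Covers.trans top (Log.Covers.trans top (Log.Covers.trans top (top.covers_of_part _ _ _ top_part113) (Log.Covers.trans top (top.covers_of_part _ _ _ top_part114) (top.covers_of_part _ _ _ top_part115))) (Log.Covers.trans top (Log.Covers.trans top (top.covers_of_part _ _ _ top_part116) (top.covers_of_part _ _ _ top_part117)) (Log.Covers.trans top (top.covers_of_part _ _ _ top_part118) (top.covers_of_part _ _ _ top_part119)))) (Log.Covers.trans top (Log.Covers.trans top (top.covers_of_part _ _ _ top_part120) (Log.Covers.trans top (top.covers_of_part _ _ _ top_part121) (top.covers_of_part _ _ _ top_part122))) (Log.Covers.trans top (Log.Covers.trans top (top.covers_of_part _ _ _ top_part123) (top.covers_of_part _ _ _ top_part124)) (Log.Covers.trans top (top.covers_of_part _ _ _ top_part125) (top.covers_of_part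 _ _ _ top_part126))))) (Log.Covers.trans top (Log.Covers.trans top (Log.Covers.trans top (top.covers_of_part _ _ _ top_part127) (Log.Covers.trans top (top.covers_of_part _ _ _ top_part128) (top.covers_of_part _ _ _ top_part129))) (Log.Covers.trans top (Log.Covers.trans top (top.covers_of_part _ _ _ top_part130) (top.covers_of_part _ _ _ top_part131)) (Log.Covers.trans top (top.covers_of_part _ _ _ top_part132) (top.covers_of_part _ _ _ top_part133)))) (Log.Covers.trans top (Log.Covers.trans top (top.covers_of_part _ _ _ top_part134) (Log.Covers.trans top (top.covers_of_part _ _ _ top_part135) (top.covers_of_part _ _ _ top_part136))) (Log.Covers.trans top (Log.Covers.trans top (top.covers_of_part _ _ _ top_part137) (top.covers_of_part _ _ _ top_part138)) (Log.Covers.trans top (top.covers_of_part _ _ _ top_part139) (top.covers_of_part _ _ _ top_part140)))))) (Log.Covers.trans top (Log.Covers.trans top (Log.Covers.trans top (Log.Covers.trans top (top.covers_of_part _ _ _ top_part141) (Log.Covers.trans top (top.covers_of_part _ _ _ top_part142) (top.covers_of_part _ _ _ top_part143))) (Log.Covers.trans top (Log.Covers.trans top (top.covers_of_part _ _ _ top_part144) (top.covers_of_part _ _ _ top_part145)) (Log.Covers.trans top (top.covers_of_part _ _ _ top_part146) (top.covers_of_part _ _ _ top_part147)))) (Log.Covers.trans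 top (Log.Covers.trans top (top.covers_of_part _ _ _ top_part148) (Log.Covers.trans top (top.covers_of_part _ _ _ top_part149) (top.covers_of_part _ _ _ top_part150))) (Log.Covers.trans top (Log.Covers.trans top (top.covers_of_part _ _ _ top_part151) (top.covers_of_part _ _ _ top_part152)) (Log.Covers.trans top (top.covers_of_part _ _ _ top_part153) (top.covers_of_part _ _ _ top_part154))))) (Log.Covers.trans top (Log.Covers.trans top (Log.Covers.trans top (top.covers_of_part _ _ _ top_part155) (Log.Covers.trans top (top.covers_of_part _ _ _ top_part156) (top.covers_of_part _ _ _ top_part157))) (Log.Covers.trans top (Log.Covers.trans top (top.covers_of_part _ _ _ top_part158) (top.covers_of_part _ _ _ top_part159)) (Log.Covers.trans top (top.covers_of_part _ _ _ top_part160) (top.covers_of_part _ _ _ top_part161)))) (Log.Covers.trans top (Log.Covers.trans top (Log.Covers.trans top (top.covers_of_part _ _ _ top_part162) (top.covers_of_part _ _ _ top_part163)) (Log.Covers.trans top (top.covers_of_part _ _ _ top_part164) (top.covers_of_part _ _ _ top_part165))) (Log.Covers.trans top (Log.Covers.trans top (top.covers_of_part _ _ _ top_part166) (top.covers_of_part _ _ _ top_part167)) (Log.Covers.trans top (top.covers_of_part _ _ _ top_part168) (top.covers_of_part _ _ _ top_part169))))))) (Log.Covers.trans top (Log.Covers.trans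 top (Log.Covers.trans top (Log.Covers.trans top (Log.Covers.trans top (top.covers_of_part _ _ _ top_part170) (Log.Covers.trans top (top.covers_of_part _ _ _ top_part171) (top.covers_of_part _ _ _ top_part172))) (Log.Covers.trans top (Log.Covers.trans top (top.covers_of_part _ _ _ top_part173) (top.covers_of_part _ _ _ top_part174)) (Log.Covers.trans top (top.covers_of_part _ _ _ top_part175) (top.covers_of_part _ _ _ top_part176)))) (Log.Covers.trans top (Log.Covers.trans top (top.covers_of_part _ _ _ top_part177) (Log.Covers.trans top (top.covers_of_part _ _ _ top_part178) (top.covers_of_part _ _ _ top_part179))) (Log.Covers.trans top (Log.Covers.trans top (top.covers_of_part _ _ _ top_part180) (top.covers_of_part _ _ _ top_part181)) (Log.Covers.trans top (top.covers_of_part _ _ _ top_part182) (top.covers_of_part _ _ _ top_part183))))) (Log.Covers.trans top (Log.Covers.trans top (Log.Covers.trans top (top.covers_of_part _ _ _ top_part184) (Log.Covers.trans top (top.covers_of_part _ _ _ top_part185) (top.covers_of_part _ _ _ top_part186))) (Log.Covers.trans top (Log.Covers.trans top (top.covers_of_part _ _ _ top_part187) (top.covers_of_part _ _ _ top_part188)) (Log.Covers.trans top (top.covers_of_part _ _ _ top_part189) (top.covers_of_part _ _ _ top_part190)))) (Log.Covers.trans top (Log.Covers.trans top (top.covers_of_part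 _ _ _ top_part191) (Log.Covers.trans top (top.covers_of_part _ _ _ top_part192) (top.covers_of_part _ _ _ top_part193))) (Log.Covers.trans top (Log.Covers.trans top (top.covers_of_part _ _ _ top_part194) (top.covers_of_part _ _ _ top_part195)) (Log.Covers.trans top (top.covers_of_part _ _ _ top_part196) (top.covers_of_part _ _ _ top_part197)))))) (Log.Covers.trans top (Log.Covers.trans top (Log.Covers.trans top (Log.Covers.trans top (top.covers_of_part _ _ _ top_part198) (Log.Covers.trans top (top.covers_of_part _ _ _ top_part199) (top.covers_of_part _ _ _ top_part200))) (Log.Covers.trans top (Log.Covers.trans top (top.covers_of_part _ _ _ top_part201) (top.covers_of_part _ _ _ top_part202)) (Log.Covers.trans top (top.covers_of_part _ _ _ top_part203) (top.covers_of_part _ _ _ top_part204)))) (Log.Covers.trans top (Log.Covers.trans top (top.covers_of_part _ _ _ top_part205) (Log.Covers.trans top (top.covers_of_part _ _ _ top_part206) (top.covers_of_part _ _ _ top_part207))) (Log.Covers.trans top (Log.Covers.trans top (top.covers_of_part _ _ _ top_part208) (top.covers_of_part _ _ _ top_part209)) (Log.Covers.trans top (top.covers_of_part _ _ _ top_part210) (top.covers_of_part _ _ _ top_part211))))) (Log.Covers.trans top (Log.Covers.trans top (Log.Covers.trans top (top.covers_of_part _ _ _ top_part212) (Log.Covers.trans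 top (top.covers_of_part _ _ _ top_part213) (top.covers_of_part _ _ _ top_part214))) (Log.Covers.trans top (Log.Covers.trans top (top.covers_of_part _ _ _ top_part215) (top.covers_of_part _ _ _ top_part216)) (Log.Covers.trans top (top.covers_of_part _ _ _ top_part217) (top.covers_of_part _ _ _ top_part218)))) (Log.Covers.trans top (Log.Covers.trans top (Log.Covers.trans top (top.covers_of_part _ _ _ top_part219) (top.covers_of_part _ _ _ top_part220)) (Log.Covers.trans top (top.covers_of_part _ _ _ top_part221) (top.covers_of_part _ _ _ top_part222))) (Log.Covers.trans top (Log.Covers.trans top (top.covers_of_part _ _ _ top_part223) (top.covers_of_part _ _ _ top_part224)) (Log.Covers.trans top (top.covers_of_part _ _ _ top_part225) (top.covers_of_part _ _ _ top_part226))))))))) rfl rfl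

theorem top_checks : top.Checks where
  pos := by decide +kernel
  defs := top_defs
  facts := top_facts
  final := by
    intro k hk
    change k < 31671 * 10 at hk
    refine of_allBlock (n := 316710) (size := 512) (by decide) (fun j hj => ?_) (by omega)
    have hj' : j < 619 := by omega
    interval_cases j
    · exact top_final0
    · exact top_final1
    · exact top_final2
    · exact top_final3
    · exact top_final4
    · exact top_final5
    · exact top_final6
    · exact top_final7
    · exact top_final8
    · exact top_final9
    · exact top_final10
    · exact top_final11
    · exact top_final12
    · exact top_final13
    · exact top_final14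
    · exact top_final15
    · exact top_final16
    · exact top_final17
    · exact top_final18
    · exact top_final19
    · exact top_final20
    · exact top_final21
    · exact top_final22
    · exact top_final23
    · exact top_final24
    · exact top_final25
    · exact top_final26
    · exact top_final27
    · exact top_final28
    · exact top_final29
    · exact top_final30
    · exact top_final31
    · exact top_final32
    · exact top_final33
    · exact top_final34
    · exact top_final35
    · exact top_final36
    · exact top_final37
    · exact top_final38
    · exact top_final39
    · exact top_final40
    · exact top_final41
    · exact top_final42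
    · exact top_final43
    · exact top_final44
    · exact top_final45
    · exact top_final46
    · exact top_final47
    · exact top_final48
    · exact top_final49
    · exact top_final50
    · exact top_final51
    · exact top_final52
    · exact top_final53
    · exact top_final54
    · exact top_final55
    · exact top_final56
    · exact top_final57
    · exact top_final58
    · exact top_final59
    · exact top_final60
    · exact top_final61
    · exact top_final62
    · exact top_final63
    · exact top_final64
    · exact top_final65
    · exact top_final66
    · exact top_final67
    · exact top_final68
    · exact top_final69
    · exact top_final70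
    · exact top_final71
    · exact top_final72
    · exact top_final73
    · exact top_final74
    · exact top_final75
    · exact top_final76
    · exact top_final77
    · exact top_final78
    · exact top_final79
    · exact top_final80
    · exact top_final81
    · exact top_final82
    · exact top_final83
    · exact top_final84
    · exact top_final85
    · exact top_final86
    · exact top_final87
    · exact top_final88
    · exact top_final89
    · exact top_final90
    · exact top_final91
    · exact top_final92
    · exact top_final93
    · exact top_final94
    · exact top_final95
    · exact top_final96
    · exact top_final97
    · exact top_final98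
    · exact top_final99
    · exact top_final100
    · exact top_final101
    · exact top_final102
    · exact top_final103
    · exact top_final104
    · exact top_final105
    · exact top_final106
    · exact top_final107
    · exact top_final108
    · exact top_final109
    · exact top_final110
    · exact top_final111
    · exact top_final112
    · exact top_final113
    · exact top_final114
    · exact top_final115
    · exact top_final116
    · exact top_final117
    · exact top_final118
    · exact top_final119
    · exact top_final120
    · exact top_final121
    · exact top_final122
    · exact top_final123
    · exact top_final124
    · exact top_final125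
    · exact top_final126
    · exact top_final127
    · exact top_final128
    · exact top_final129
    · exact top_final130
    · exact top_final131
    · exact top_final132
    · exact top_final133
    · exact top_final134
    · exact top_final135
    · exact top_final136
    · exact top_final137
    · exact top_final138
    · exact top_final139
    · exact top_final140
    · exact top_final141
    · exact top_final142
    · exact top_final143
    · exact top_final144
    · exact top_final145
    · exact top_final146
    · exact top_final147
    · exact top_final148
    · exact top_final149
    · exact top_final150
    · exact top_final151
    · exact top_final152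
    · exact top_final153
    · exact top_final154
    · exact top_final155
    · exact top_final156
    · exact top_final157
    · exact top_final158
    · exact top_final159
    · exact top_final160
    · exact top_final161
    · exact top_final162
    · exact top_final163
    · exact top_final164
    · exact top_final165
    · exact top_final166
    · exact top_final167
    · exact top_final168
    · exact top_final169
    · exact top_final170
    · exact top_final171
    · exact top_final172
    · exact top_final173
    · exact top_final174
    · exact top_final175
    · exact top_final176
    · exact top_final177
    · exact top_final178
    · exact top_final179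
    · exact top_final180
    · exact top_final181
    · exact top_final182
    · exact top_final183
    · exact top_final184
    · exact top_final185
    · exact top_final186
    · exact top_final187
    · exact top_final188
    · exact top_final189
    · exact top_final190
    · exact top_final191
    · exact top_final192
    · exact top_final193
    · exact top_final194
    · exact top_final195
    · exact top_final196
    · exact top_final197
    · exact top_final198
    · exact top_final199
    · exact top_final200
    · exact top_final201
    · exact top_final202
    · exact top_final203
    · exact top_final204
    · exact top_final205
    · exact top_final206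
    · exact top_final207
    · exact top_final208
    · exact top_final209
    · exact top_final210
    · exact top_final211
    · exact top_final212
    · exact top_final213
    · exact top_final214
    · exact top_final215
    · exact top_final216
    · exact top_final217
    · exact top_final218
    · exact top_final219
    · exact top_final220
    · exact top_final221
    · exact top_final222
    · exact top_final223
    · exact top_final224
    · exact top_final225
    · exact top_final226
    · exact top_final227
    · exact top_final228
    · exact top_final229
    · exact top_final230
    · exact top_final231
    · exact top_final232
    · exact top_final233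
    · exact top_final234
    · exact top_final235
    · exact top_final236
    · exact top_final237
    · exact top_final238
    · exact top_final239
    · exact top_final240
    · exact top_final241
    · exact top_final242
    · exact top_final243
    · exact top_final244
    · exact top_final245
    · exact top_final246
    · exact top_final247
    · exact top_final248
    · exact top_final249
    · exact top_final250
    · exact top_final251
    · exact top_final252
    · exact top_final253
    · exact top_final254
    · exact top_final255
    · exact top_final256
    · exact top_final257
    · exact top_final258
    · exact top_final259
    · exact top_final260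
    · exact top_final261
    · exact top_final262
    · exact top_final263
    · exact top_final264
    · exact top_final265
    · exact top_final266
    · exact top_final267
    · exact top_final268
    · exact top_final269
    · exact top_final270
    · exact top_final271
    · exact top_final272
    · exact top_final273
    · exact top_final274
    · exact top_final275
    · exact top_final276
    · exact top_final277
    · exact top_final278
    · exact top_final279
    · exact top_final280
    · exact top_final281
    · exact top_final282
    · exact top_final283
    · exact top_final284
    · exact top_final285
    · exact top_final286
    · exact top_final287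
    · exact top_final288
    · exact top_final289
    · exact top_final290
    · exact top_final291
    · exact top_final292
    · exact top_final293
    · exact top_final294
    · exact top_final295
    · exact top_final296
    · exact top_final297
    · exact top_final298
    · exact top_final299
    · exact top_final300
    · exact top_final301
    · exact top_final302
    · exact top_final303
    · exact top_final304
    · exact top_final305
    · exact top_final306
    · exact top_final307
    · exact top_final308
    · exact top_final309
    · exact top_final310
    · exact top_final311
    · exact top_final312
    · exact top_final313
    · exact top_final314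
    · exact top_final315
    · exact top_final316
    · exact top_final317
    · exact top_final318
    · exact top_final319
    · exact top_final320
    · exact top_final321
    · exact top_final322
    · exact top_final323
    · exact top_final324
    · exact top_final325
    · exact top_final326
    · exact top_final327
    · exact top_final328
    · exact top_final329
    · exact top_final330
    · exact top_final331
    · exact top_final332
    · exact top_final333
    · exact top_final334
    · exact top_final335
    · exact top_final336
    · exact top_final337
    · exact top_final338
    · exact top_final339
    · exact top_final340
    · exact top_final341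
    · exact top_final342
    · exact top_final343
    · exact top_final344
    · exact top_final345
    · exact top_final346
    · exact top_final347
    · exact top_final348
    · exact top_final349
    · exact top_final350
    · exact top_final351
    · exact top_final352
    · exact top_final353
    · exact top_final354
    · exact top_final355
    · exact top_final356
    · exact top_final357
    · exact top_final358
    · exact top_final359
    · exact top_final360
    · exact top_final361
    · exact top_final362
    · exact top_final363
    · exact top_final364
    · exact top_final365
    · exact top_final366
    · exact top_final367
    · exact top_final368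
    · exact top_final369
    · exact top_final370
    · exact top_final371
    · exact top_final372
    · exact top_final373
    · exact top_final374
    · exact top_final375
    · exact top_final376
    · exact top_final377
    · exact top_final378
    · exact top_final379
    · exact top_final380
    · exact top_final381
    · exact top_final382
    · exact top_final383
    · exact top_final384
    · exact top_final385
    · exact top_final386
    · exact top_final387
    · exact top_final388
    · exact top_final389
    · exact top_final390
    · exact top_final391
    · exact top_final392
    · exact top_final393
    · exact top_final394
    · exact top_final395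
    · exact top_final396
    · exact top_final397
    · exact top_final398
    · exact top_final399
    · exact top_final400
    · exact top_final401
    · exact top_final402
    · exact top_final403
    · exact top_final404
    · exact top_final405
    · exact top_final406
    · exact top_final407
    · exact top_final408
    · exact top_final409
    · exact top_final410
    · exact top_final411
    · exact top_final412
    · exact top_final413
    · exact top_final414
    · exact top_final415
    · exact top_final416
    · exact top_final417
    · exact top_final418
    · exact top_final419
    · exact top_final420
    · exact top_final421
    · exact top_final422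
    · exact top_final423
    · exact top_final424
    · exact top_final425
    · exact top_final426
    · exact top_final427
    · exact top_final428
    · exact top_final429
    · exact top_final430
    · exact top_final431
    · exact top_final432
    · exact top_final433
    · exact top_final434
    · exact top_final435
    · exact top_final436
    · exact top_final437
    · exact top_final438
    · exact top_final439
    · exact top_final440
    · exact top_final441
    · exact top_final442
    · exact top_final443
    · exact top_final444
    · exact top_final445
    · exact top_final446
    · exact top_final447
    · exact top_final448
    · exact top_final449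
    · exact top_final450
    · exact top_final451
    · exact top_final452
    · exact top_final453
    · exact top_final454
    · exact top_final455
    · exact top_final456
    · exact top_final457
    · exact top_final458
    · exact top_final459
    · exact top_final460
    · exact top_final461
    · exact top_final462
    · exact top_final463
    · exact top_final464
    · exact top_final465
    · exact top_final466
    · exact top_final467
    · exact top_final468
    · exact top_final469
    · exact top_final470
    · exact top_final471
    · exact top_final472
    · exact top_final473
    · exact top_final474
    · exact top_final475
    · exact top_final476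
    · exact top_final477
    · exact top_final478
    · exact top_final479
    · exact top_final480
    · exact top_final481
    · exact top_final482
    · exact top_final483
    · exact top_final484
    · exact top_final485
    · exact top_final486
    · exact top_final487
    · exact top_final488
    · exact top_final489
    · exact top_final490
    · exact top_final491
    · exact top_final492
    · exact top_final493
    · exact top_final494
    · exact top_final495
    · exact top_final496
    · exact top_final497
    · exact top_final498
    · exact top_final499
    · exact top_final500
    · exact top_final501
    · exact top_final502
    · exact top_final503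
    · exact top_final504
    · exact top_final505
    · exact top_final506
    · exact top_final507
    · exact top_final508
    · exact top_final509
    · exact top_final510
    · exact top_final511
    · exact top_final512
    · exact top_final513
    · exact top_final514
    · exact top_final515
    · exact top_final516
    · exact top_final517
    · exact top_final518
    · exact top_final519
    · exact top_final520
    · exact top_final521
    · exact top_final522
    · exact top_final523
    · exact top_final524
    · exact top_final525
    · exact top_final526
    · exact top_final527
    · exact top_final528
    · exact top_final529
    · exact top_final530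
    · exact top_final531
    · exact top_final532
    · exact top_final533
    · exact top_final534
    · exact top_final535
    · exact top_final536
    · exact top_final537
    · exact top_final538
    · exact top_final539
    · exact top_final540
    · exact top_final541
    · exact top_final542
    · exact top_final543
    · exact top_final544
    · exact top_final545
    · exact top_final546
    · exact top_final547
    · exact top_final548
    · exact top_final549
    · exact top_final550
    · exact top_final551
    · exact top_final552
    · exact top_final553
    · exact top_final554
    · exact top_final555
    · exact top_final556
    · exact top_final557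
    · exact top_final558
    · exact top_final559
    · exact top_final560
    · exact top_final561
    · exact top_final562
    · exact top_final563
    · exact top_final564
    · exact top_final565
    · exact top_final566
    · exact top_final567
    · exact top_final568
    · exact top_final569
    · exact top_final570
    · exact top_final571
    · exact top_final572
    · exact top_final573
    · exact top_final574
    · exact top_final575
    · exact top_final576
    · exact top_final577
    · exact top_final578
    · exact top_final579
    · exact top_final580
    · exact top_final581
    · exact top_final582
    · exact top_final583
    · exact top_final584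
    · exact top_final585
    · exact top_final586
    · exact top_final587
    · exact top_final588
    · exact top_final589
    · exact top_final590
    · exact top_final591
    · exact top_final592
    · exact top_final593
    · exact top_final594
    · exact top_final595
    · exact top_final596
    · exact top_final597
    · exact top_final598
    · exact top_final599
    · exact top_final600
    · exact top_final601
    · exact top_final602
    · exact top_final603
    · exact top_final604
    · exact top_final605
    · exact top_final606
    · exact top_final607
    · exact top_final608
    · exact top_final609
    · exact top_final610
    · exact top_final611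
    · exact top_final612
    · exact top_final613
    · exact top_final614
    · exact top_final615
    · exact top_final616
    · exact top_final617
    · exact top_final618

theorem top_derived : top.rels.all (derivedOk top.n topBase) = true := by decide +kernel

end Cfsg.Agent.Spor.Cos.Y432
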