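import Cfsg.Agent.Lib.Spor.Cos.Y432.Y2Part0

/-! A checked coset enumeration. -/

set_option autoImplicit false
set_option maxRecDepth 100000
set_option maxHeartbeats 4000000

namespace Cfsg.Agent.Spor.Cos.Y432

theorem y2_def0 : allBlock y2.chkDef 860 512 0 = true := by decide +kernel

theorem y2_def1 : allBlock y2.chkDef 860 512 1 = true := by decide +kernel

theorem y2_defs : ∀ i, i + 1 < y2.M → y2.chkDef i = true := by
  intro i hi
  change i + 1 < 861 at hi
  refine of_allBlock (n := 860) (size := 512) (by decide) (fun j hj => ?_) (by omega)
  have hj' : j < 2 := by omega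
  interval_cases j
  · exact y2_def0
  · exact y2_def1

theorem y2_facts : ∀ i, y2.M ≤ i + 1 → i < y2.nF → ∃ J, y2.chkFact i J = true := by
  exact y2.facts_of_covers (Log.Covers.trans y2 (y2.covers_of_part _ _ _ y2_part0) (Log.Covers.trans y2 (y2.covers_of_part _ _ _ y2_part1) (y2.covers_of_part _ _ _ y2_part2))) rfl rfl

theorem y2_final0 : allBlock y2.chkFinal 1701 512 0 = true := by decide +kernel

theorem y2_final1 : allBlock y2.chkFinal 1701 512 1 = true := by decide +kernel

theorem y2_final2 : allBlock y2.chkFinal 1701 512 2 = true := by decide +kernel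

theorem y2_final3 : allBlock y2.chkFinal 1701 512 3 = true := by decide +kernel

theorem y2_checks : y2.Checks where
  pos := by decide +kernel
  defs := y2_defs
  facts := y2_facts
  final := by
    intro k hk
    change k < 243 * 7 at hk
    refine of_allBlock (n := 1701) (size := 512) (by decide) (fun j hj => ?_) (by omega)
    have hj' : j < 4 := by omega
    interval_cases j
    · exact y2_final0
    · exact y2_final1
    · exact y2_final2
    · exact y2_final3

theorem y2_derived : y2.rels.all (derivedOk y2.n y2Base) = true := by decide +kernel

end Cfsg.Agent.Spor.Cos.Y432
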