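import Cfsg.Agent.Lib.Spor.Cos.Y432.Y3Part0

/-! A checked coset enumeration. -/

set_option autoImplicit false
set_option maxRecDepth 100000
set_option maxHeartbeats 4000000

namespace Cfsg.Agent.Spor.Cos.Y432

theorem y3_def0 : allBlock y3.chkDef 2687 512 0 = true := by decide +kernel

theorem y3_def1 : allBlock y3.chkDef 2687 512 1 = true := by decide +kernel

theorem y3_def2 : allBlock y3.chkDef 2687 512 2 = true := by decide +kernel

theorem y3_def3 : allBlock y3.chkDef 2687 512 3 = true := by decide +kernel

theorem y3_def4 : allBlock y3.chkDef 2687 512 4 = true := by decide +kernel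

theorem y3_def5 : allBlock y3.chkDef 2687 512 5 = true := by decide +kernel

theorem y3_defs : ∀ i, i + 1 < y3.M → y3.chkDef i = true := by
  intro i hi
  change i + 1 < 2688 at hi
  refine of_allBlock (n := 2687) (size := 512) (by decide) (fun j hj => ?_) (by omega)
  have hj' : j < 6 := by omega
  interval_cases j
  · exact y3_def0
  · exact y3_def1
  · exact y3_def2
  · exact y3_def3
  · exact y3_def4
  · exact y3_def5

theorem y3_facts : ∀ i, y3.M ≤ i + 1 → i < y3.nF → ∃ J, y3.chkFact i J = true := by
  exact y3.facts_of_covers (Log.Covers.trans y3 (Log.Covers.trans y3 (Log.Covers.trans y3 (y3.covers_of_part _ _ _ y3_part0) (y3.covers_of_part _ _ _ y3_part1)) (Log.Covers.trans y3 (y3.covers_of_part _ _ _ y3_part2) (y3.covers_of_part _ _ _ y3_part3))) (Log.Covers.trans y3 (Log.Covers.trans y3 (y3.covers_of_part _ _ _ y3_part4) (y3.covers_of_part _ _ _ y3_part5)) (Log.Covers.trans y3 (y3.covers_of_part _ _ _ y3_part6) (Log.Covers.trans y3 (y3.covers_of_part _ _ _ y3_part7) (y3.covers_of_part _ _ _ y3_part8))))) rfl rfl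

theorem y3_final0 : allBlock y3.chkFinal 5824 512 0 = true := by decide +kernel

theorem y3_final1 : allBlock y3.chkFinal 5824 512 1 = true := by decide +kernel

theorem y3_final2 : allBlock y3.chkFinal 5824 512 2 = true := by decide +kernel

theorem y3_final3 : allBlock y3.chkFinal 5824 512 3 = true := by decide +kernel

theorem y3_final4 : allBlock y3.chkFinal 5824 512 4 = true := by decide +kernel

theorem y3_final5 : allBlock y3.chkFinal 5824 512 5 = true := by decide +kernel

theorem y3_final6 : allBlock y3.chkFinal 5824 512 6 = true := by decide +kernel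

theorem y3_final7 : allBlock y3.chkFinal 5824 512 7 = true := by decide +kernel

theorem y3_final8 : allBlock y3.chkFinal 5824 512 8 = true := by decide +kernel

theorem y3_final9 : allBlock y3.chkFinal 5824 512 9 = true := by decide +kernel

theorem y3_final10 : allBlock y3.chkFinal 5824 512 10 = true := by decide +kernel

theorem y3_final11 : allBlock y3.chkFinal 5824 512 11 = true := by decide +kernel

theorem y3_checks : y3.Checks where
  pos := by decide +kernel
  defs := y3_defs
  facts := y3_facts
  final := by
    intro k hk
    change k < 728 * 8 at hk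
    refine of_allBlock (n := 5824) (size := 512) (by decide) (fun j hj => ?_) (by omega)
    have hj' : j < 12 := by omega
    interval_cases j
    · exact y3_final0
    · exact y3_final1
    · exact y3_final2
    · exact y3_final3
    · exact y3_final4
    · exact y3_final5
    · exact y3_final6
    · exact y3_final7
    · exact y3_final8
    · exact y3_final9
    · exact y3_final10
    · exact y3_final11

theorem y3_derived : y3.rels.all (derivedOk y3.n y3Base) = true := by decide +kernel

end Cfsg.Agent.Spor.Cos.Y432
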