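import Cfsg.Agent.Lib.Spor.Cos.Y432.TopData

/-! A checked coset enumeration. -/

set_option autoImplicit false
set_option maxRecDepth 100000
set_option maxHeartbeats 4000000

namespace Cfsg.Agent.Spor.Cos.Y432

theorem top_final294 : allBlock top.chkFinal 316710 512 294 = true := by decide +kernel

theorem top_final295 : allBlock top.chkFinal 316710 512 295 = true := by decide +kernel

theorem top_final296 : allBlock top.chkFinal 316710 512 296 = true := by decide +kernel

theorem top_final297 : allBlock top.chkFinal 316710 512 297 = true := by decide +kernel

theorem top_final298 : allBlock top.chkFinal 316710 512 298 = true := by decide +kernel

theorem top_final299 : allBlock top.chkFinal 316710 512 299 = true := by decide +kernel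

theorem top_final300 : allBlock top.chkFinal 316710 512 300 = true := by decide +kernel

theorem top_final301 : allBlock top.chkFinal 316710 512 301 = true := by decide +kernel

theorem top_final302 : allBlock top.chkFinal 316710 512 302 = true := by decide +kernel

theorem top_final303 : allBlock top.chkFinal 316710 512 303 = true := by decide +kernel

theorem top_final304 : allBlock top.chkFinal 316710 512 304 = true := by decide +kernel

theorem top_final305 : allBlock top.chkFinal 316710 512 305 = true := by decide +kernel

theorem top_final306 : allBlock top.chkFinal 316710 512 306 = true := by decide +kernel

theorem top_final307 : allBlock top.chkFinal 316710 512 307 = true := by decide +kernel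

theorem top_final308 : allBlock top.chkFinal 316710 512 308 = true := by decide +kernel

theorem top_final309 : allBlock top.chkFinal 316710 512 309 = true := by decide +kernel

theorem top_final310 : allBlock top.chkFinal 316710 512 310 = true := by decide +kernel

theorem top_final311 : allBlock top.chkFinal 316710 512 311 = true := by decide +kernel

theorem top_final312 : allBlock top.chkFinal 316710 512 312 = true := by decide +kernel

theorem top_final313 : allBlock top.chkFinal 316710 512 313 = true := by decide +kernel

theorem top_final314 : allBlock top.chkFinal 316710 512 314 = true := by decide +kernel

theorem top_final315 : allBlock top.chkFinal 316710 512 315 = true := by decide +kernel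

theorem top_final316 : allBlock top.chkFinal 316710 512 316 = true := by decide +kernel

theorem top_final317 : allBlock top.chkFinal 316710 512 317 = true := by decide +kernel

theorem top_final318 : allBlock top.chkFinal 316710 512 318 = true := by decide +kernel

theorem top_final319 : allBlock top.chkFinal 316710 512 319 = true := by decide +kernel

theorem top_final320 : allBlock top.chkFinal 316710 512 320 = true := by decide +kernel

theorem top_final321 : allBlock top.chkFinal 316710 512 321 = true := by decide +kernel

theorem top_final322 : allBlock top.chkFinal 316710 512 322 = true := by decide +kernel

theorem top_final323 : allBlock top.chkFinal 316710 512 323 = true := by decide +kernel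

theorem top_final324 : allBlock top.chkFinal 316710 512 324 = true := by decide +kernel

theorem top_final325 : allBlock top.chkFinal 316710 512 325 = true := by decide +kernel

theorem top_final326 : allBlock top.chkFinal 316710 512 326 = true := by decide +kernel

theorem top_final327 : allBlock top.chkFinal 316710 512 327 = true := by decide +kernel

theorem top_final328 : allBlock top.chkFinal 316710 512 328 = true := by decide +kernel

theorem top_final329 : allBlock top.chkFinal 316710 512 329 = true := by decide +kernel

theorem top_final330 : allBlock top.chkFinal 316710 512 330 = true := by decide +kernel

theorem top_final331 : allBlock top.chkFinal 316710 512 331 = true := by decide +kernel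

theorem top_final332 : allBlock top.chkFinal 316710 512 332 = true := by decide +kernel

theorem top_final333 : allBlock top.chkFinal 316710 512 333 = true := by decide +kernel

end Cfsg.Agent.Spor.Cos.Y432
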